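import Cfsg.Agent.Lib.MonsterType.Held.Elems
import Cfsg.Agent.Lib.LinGroup.Generation

/-!
The centraliser of the element of order 7 maps onto `SL(3, 2)`, the kernel being the element and
negation.
-/

set_option autoImplicit false

namespace Cfsg.Agent.Lib.MonsterType.Held

open Cfsg
open Cfsg.Agent.Lib
open Cfsg.Agent.Lib.Leech
open Matrix

/-- Values read off a number. -/
def ofBits (n : ℕ) : Fin 6 → ZMod 2 := fun k => if n.testBit k.val then 1 else 0

/-- A basis of one of the two invariant three-spaces. -/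
def bas (j : Fin 3) : Fin 6 → ZMod 2 := ofBits ([56, 38, 17].getD j.val 0)

/-- Combinations of the basis. -/
def comb (a : Fin 3 → ZMod 2) : Fin 6 → ZMod 2 := fun k => ∑ j, a j * bas j k

/-- Coordinates in the basis. -/
def coord (s : Fin 6 → ZMod 2) : Fin 3 → ZMod 2 := ![s 3, s 1, s 0]

/-- The orbit of the class of `8 e∞`. -/
def q (i : ℕ) : Fin 6 → ℤ := six (Data.orbitQ.getD i [])

/-- Its image under the inverting element. -/
def qj (i : ℕ) : Fin 6 → ℤ := six (Data.orbitJ.getD i [])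

/-- The values of a representative. -/
def rep6 (s : Fin 6 → ZMod 2) : Fin 6 → ℤ := six (Data.reps.getD (sigIdx s) [])

set_option maxHeartbeats 2000000 in
theorem coord_checks : (∀ a, coord (comb a) = a) ∧
    (∀ a, a ≠ 0 → comb a ≠ 0 ∧ sqNorm (rep (comb a)) = 64 ∧
      ∃ i : Fin 7, sig (spread (q i.val)) = comb a) ∧
    (∀ s, s ≠ 0 → sqNorm (rep s) = 64 → comb (coord s) ≠ s →
      ∃ i : Fin 7, sig (spread (qj i.val)) = s) ∧
    spread (q 0) = vec8 none ∧ sigmaF none = none ∧ sig (spread (q 0)) = comb ![1, 0, 0] :=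
  ⟨by decide +kernel, by decide +kernel, by decide +kernel, by decide +kernel, by decide +kernel,
    by decide +kernel⟩

set_option maxHeartbeats 2000000 in
theorem orbit_checks : ∀ i : Fin 7, matMap gM (spread (q i.val)) = spread (q (i.val + 1)) ∧
    matMap jM (spread (q i.val)) = spread (qj i.val) := by
  decide +kernel

theorem fixed_of_spread {v : leechLattice} {r : Fin 6 → ℤ} (h : (v : GolayPt → ℤ) = spread r) :
    k0 • v = v := by
  refine Subtype.ext (funext fun p => ?_)
  obtain ⟨x, rfl⟩ := sigma.surjective p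
  rw [k0_smul, h, spread_sigma]

theorem gPow_pt8 : ∀ i, i ≤ 7 → ((gCo ^ i • pt8 none : leechLattice) : GolayPt → ℤ) = spread (q i) := by
  intro i
  induction i with
  | zero => intro; rw [pow_zero, one_smul]; exact coord_checks.2.2.2.1.symm
  | succ i ih =>
    intro h
    rw [pow_succ', mul_smul, gCo, matCo_smul, ← gCo, ih (by omega)]
    exact (orbit_checks ⟨i, by omega⟩).1

theorem jgPow_pt8 (i : Fin 7) :
    (((jCo * gCo ^ i.val) • pt8 none : leechLattice) : GolayPt → ℤ) = spread (qj i.val) := by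
  rw [mul_smul, jCo, matCo_smul, gPow_pt8 _ i.2.le]
  exact (orbit_checks i).2

theorem gCo_mem_cen : gCo ∈ cen := mem_cen_iff.2 gCo_comm

theorem k0_pow (n : ℕ) :
    k0 ^ n = monoCo (sigma ^ n) (pow_mem sigma_mem n) 0 (zero_mem _) :=
  (map_pow perms ⟨sigma, sigma_mem⟩ n).symm

/-- The twist of a monomial element against the element. -/
theorem mono_rel {τ : Equiv.Perm GolayPt} (hτ : τ ∈ M24) {w : GolayPt → ZMod 2} (hw : w ∈ golayCode)
    {n : ℕ} (h : monoCo τ hτ w hw * k0 = k0 ^ n * monoCo τ hτ w hw) :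
    τ * sigma = sigma ^ n * τ ∧ ∀ i, w ((sigma ^ n).symm i) = w i := by
  rw [k0_pow, k0, monoCo_mul, monoCo_mul] at h
  obtain ⟨h1, h2⟩ := monoCo_injective h
  exact ⟨h1, fun i => by simpa using (congrFun h2 i).symm⟩

theorem inW_act (c : cen) {a : Fin 3 → ZMod 2} (ha : a ≠ 0) :
    comb (coord (act c (comb a))) = act c (comb a) := by
  by_contra hne
  obtain ⟨hne0, hn, i, hi⟩ := coord_checks.2.1 a ha
  obtain ⟨l, hl⟩ := coord_checks.2.2.1 _ (act_ne_zero c hne0) ((norm_act c hne0).trans hn) hne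
  have hfg : k0 • (gCo ^ i.val • pt8 none) = gCo ^ i.val • pt8 none :=
    fixed_of_spread (gPow_pt8 _ i.2.le)
  have hfj : k0 • ((jCo * gCo ^ l.val) • pt8 none) = (jCo * gCo ^ l.val) • pt8 none :=
    fixed_of_spread (jgPow_pt8 l)
  have hcong : Cong ((c : Co0) • gCo ^ i.val • pt8 none) ((jCo * gCo ^ l.val) • pt8 none) := by
    refine cong_of_sig (fixed_smul c hfg) hfj ?_
    rw [← act_sig c hfg, gPow_pt8 _ i.2.le, hi, jgPow_pt8, hl]
  set h := (jCo * gCo ^ l.val)⁻¹ * ((c : Co0) * gCo ^ i.val) with hh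
  have hmem : h ∈ crossStab := by
    rw [mem_crossStab_iff, hh, mul_smul, mul_smul]
    have := hcong.smul (jCo * gCo ^ l.val)⁻¹
    rwa [inv_smul_smul] at this
  have h1 : ((c : Co0) * gCo ^ i.val) * k0 = k0 * ((c : Co0) * gCo ^ i.val) :=
    mem_cen_iff.1 (mul_mem c.2 (pow_mem gCo_mem_cen _))
  have h2 : jCo⁻¹ * k0 = k0 ^ 6 * jCo⁻¹ := by
    have h6 : k0 ^ 6 = k0⁻¹ := eq_inv_of_mul_eq_one_left (by
      rw [← pow_succ, k0, ← k0, k0_pow, show (6 + 1) = 7 from rfl]
      refine co0_ext_pt8 fun x => ?_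
      rw [monoCo_smul_pt8, one_smul, sigma_pow_seven]
      simp)
    have e : jCo⁻¹ = k0⁻¹ * jCo⁻¹ * k0⁻¹ := by
      conv_lhs => rw [← jCo_conj, _root_.mul_inv_rev, _root_.mul_inv_rev, ← mul_assoc]
    rw [h6]
    conv_lhs => rw [e]
    rw [inv_mul_cancel_right]
  have hrel : h * k0 = k0 ^ 6 * h := by
    have hg : Commute (gCo ^ l.val)⁻¹ (k0 ^ 6) :=
      ((show Commute gCo k0 from gCo_comm).pow_pow l.val 6).inv_left
    calc h * k0 = (gCo ^ l.val)⁻¹ * (jCo⁻¹ * (((c : Co0) * gCo ^ i.val) * k0)) := by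
          rw [hh, _root_.mul_inv_rev]; simp only [mul_assoc]
      _ = (gCo ^ l.val)⁻¹ * k0 ^ 6 * (jCo⁻¹ * ((c : Co0) * gCo ^ i.val)) := by
          rw [h1, ← mul_assoc jCo⁻¹, h2]; simp only [mul_assoc]
      _ = k0 ^ 6 * h := by
          rw [hg.eq, hh, _root_.mul_inv_rev]; simp only [mul_assoc]
  obtain ⟨τ, hτ, w, hw, e⟩ := exists_mono_of_mem_crossStab hmem
  rw [e] at hrel
  exact Bool.false_ne_true (classify hτ false (mono_rel hτ hw hrel).1).1

/-- The matrix on the invariant three-space. -/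
noncomputable def mat3 (c : cen) : Matrix (Fin 3) (Fin 3) (ZMod 2) :=
  Matrix.of fun i j => coord (act c (bas j)) i

/-- The action as a linear map. -/
noncomputable def actLin (c : cen) : (Fin 6 → ZMod 2) →ₗ[ZMod 2] (Fin 6 → ZMod 2) :=
  (AddMonoidHom.mk' (act c) (act_add c)).toZModLinearMap 2

theorem coord_act (c : cen) (a : Fin 3 → ZMod 2) :
    coord (act c (comb a)) = mat3 c *ᵥ a := by
  have hc : comb a = a 0 • bas 0 + a 1 • bas 1 + a 2 • bas 2 :=
    funext fun k => by simp [comb, Fin.sum_univ_three]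
  have e : act c (comb a) = a 0 • act c (bas 0) + a 1 • act c (bas 1) + a 2 • act c (bas 2) := by
    show actLin c (comb a) = _
    rw [hc, map_add, map_add, map_smul, map_smul, map_smul]
    rfl
  funext i
  rw [e]
  fin_cases i <;>
    simp [coord, mat3, Matrix.mulVec, dotProduct, Fin.sum_univ_three, mul_comm]

theorem act_comb (c : cen) (a : Fin 3 → ZMod 2) : act c (comb a) = comb (mat3 c *ᵥ a) := by
  by_cases ha : a = 0
  · subst ha
    rw [mulVec_zero, show comb 0 = 0 from funext fun k => by simp [comb], act_zero]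
  · rw [← coord_act, inW_act c ha]

theorem comb_single : ∀ j, comb (Pi.single j 1) = bas j := by decide +kernel

theorem mat3_mul (c d : cen) : mat3 (c * d) = mat3 c * mat3 d := by
  ext i j
  show coord (act (c * d) (bas j)) i = _
  rw [act_mul, ← comb_single, act_comb, coord_act, mulVec_mulVec, mulVec_single_one]
  rfl

theorem mat3_one : mat3 1 = 1 := by
  ext i j
  show coord (act 1 (bas j)) i = _
  rw [act_one, ← comb_single, coord_checks.1, Pi.single_apply, Matrix.one_apply]

theorem det_mat3 (c : cen) : (mat3 c).det = 1 := by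
  have h : (mat3 c).det * (mat3 c⁻¹).det = 1 := by
    rw [← det_mul, ← mat3_mul, mul_inv_cancel, mat3_one, det_one]
  rcases zmod2_cases (mat3 c).det with e | e
  · rw [e, zero_mul] at h; exact absurd h zero_ne_one
  · exact e

/-- The map onto `SL(3, 2)`. -/
noncomputable def toSL : cen →* Matrix.SpecialLinearGroup (Fin 3) (ZMod 2) where
  toFun c := ⟨mat3 c, det_mat3 c⟩
  map_one' := Subtype.ext mat3_one
  map_mul' c d := Subtype.ext (mat3_mul c d)

/-- The matrix of a monomial element. -/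
def monoMat (k : Fin 6) (v : Fin 3 → ZMod 2) : Matrix (Fin 3) (Fin 3) (ZMod 2) :=
  Matrix.of fun i j => coord (sig (spread (monoVec k v (rep6 (bas j))))) i

/-- The matrix of the element commuting with the element. -/
def gMat : Matrix (Fin 3) (Fin 3) (ZMod 2) :=
  Matrix.of fun i j => coord (sig (matMap gM (rep (bas j)))) i

/-- The monomial elements in the centraliser. -/
noncomputable def monoC (k : Fin 6) (v : Fin 3 → ZMod 2) : cen :=
  ⟨monoE k v, mem_cen_iff.2 (monoE_comm k v)⟩

theorem act_monoC (k : Fin 6) (v : Fin 3 → ZMod 2) (s : Fin 6 → ZMod 2) :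
    act (monoC k v) s = sig (spread (monoVec k v (rep6 s))) :=
  congrArg sig (monoE_smul k v rfl)

theorem mat3_monoC (k : Fin 6) (v : Fin 3 → ZMod 2) : mat3 (monoC k v) = monoMat k v := by
  ext i j
  show coord (act (monoC k v) (bas j)) i = _
  rw [act_monoC]
  rfl

theorem mat3_gCo : mat3 ⟨gCo, gCo_mem_cen⟩ = gMat := rfl

set_option maxHeartbeats 2000000 in
theorem word_checks :
    monoMat 0 ![1, 0, 1] = Matrix.transvection 0 1 1 ∧
    monoMat 0 ![0, 0, 1] = Matrix.transvection 0 2 1 ∧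
    monoMat 2 0 = Matrix.transvection 1 2 1 ∧
    monoMat 0 ![1, 0, 0] * gMat * monoMat 5 0 = Matrix.transvection 1 0 1 ∧
    monoMat 1 0 * monoMat 0 ![1, 0, 0] * gMat * monoMat 4 0 = Matrix.transvection 2 0 1 ∧
    monoMat 5 0 = Matrix.transvection 2 1 1 := by
  decide +kernel

theorem toSL_surjective : Function.Surjective toSL := by
  refine MonoidHom.range_eq_top.1 (LinGroup.eq_top_of_transvection_mem _ fun i j hij c => ?_)
  rcases zmod2_cases c with rfl | rfl
  · rw [show Matrix.SpecialLinearGroup.transvection hij (0 : ZMod 2) = 1 from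
      Subtype.ext ((LinGroup.coe_transvection hij 0).trans (Matrix.transvection_zero i j))]
    exact one_mem _
  obtain ⟨e01, e02, e12, e10, e20, e21⟩ := word_checks
  have key : ∀ x : cen, mat3 x = Matrix.transvection i j 1 →
      Matrix.SpecialLinearGroup.transvection hij 1 ∈ toSL.range := fun x hx => ⟨x, Subtype.ext hx⟩
  let g' : cen := ⟨gCo, gCo_mem_cen⟩
  fin_cases i <;> fin_cases j
  · exact absurd rfl hij
  · exact key (monoC 0 ![1, 0, 1]) (by rw [mat3_monoC]; exact e01)
  · exact key (monoC 0 ![0, 0, 1]) (by rw [mat3_monoC]; exact e02)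
  · exact key (monoC 0 ![1, 0, 0] * g' * monoC 5 0)
      (by rw [mat3_mul, mat3_mul, mat3_monoC, mat3_monoC, mat3_gCo]; exact e10)
  · exact absurd rfl hij
  · exact key (monoC 2 0) (by rw [mat3_monoC]; exact e12)
  · exact key (monoC 1 0 * monoC 0 ![1, 0, 0] * g' * monoC 4 0)
      (by rw [mat3_mul, mat3_mul, mat3_mul, mat3_monoC, mat3_monoC, mat3_monoC, mat3_gCo]; exact e20)
  · exact key (monoC 5 0) (by rw [mat3_monoC]; exact e21)
  · exact absurd rfl hij

set_option maxHeartbeats 2000000 in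
theorem kernel_checks : (∀ k v, (∀ j, sig (spread (monoVec k v (rep6 (bas j)))) = bas j) →
      k = 0 ∧ (v = 0 ∨ v = 1)) ∧
    (∀ p, Golay.listFun (Data.swaps.getD 0 []) p = p) := by
  decide +kernel

theorem monoE_zero_zero : monoE 0 0 = 1 := co0_ext_pt8 fun i => by
  rw [monoE, monoCo_smul_pt8, one_smul, swap_apply]
  rw [show Golay.listFun (Data.swaps.getD ((0 : Fin 6)).val []) i = i from kernel_checks.2 i]
  simp [spread, v6]

theorem monoE_zero_one : monoE 0 1 = negCo := co0_ext_pt8 fun i => by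
  rw [monoE, monoCo_smul_pt8, negCo_smul, swap_apply]
  rw [show Golay.listFun (Data.swaps.getD ((0 : Fin 6)).val []) i = i from kernel_checks.2 i]
  simp [spread, v6]

theorem act_k0_pow (n : ℕ) (s : Fin 6 → ZMod 2) (h : k0 ^ n ∈ cen) : act ⟨_, h⟩ s = s := by
  suffices (k0 ^ n) • repL s = repL s by
    show sig ((k0 ^ n • repL s : leechLattice) : GolayPt → ℤ) = s
    rw [this, sig_repL]
  induction n with
  | zero => rw [pow_zero, one_smul]
  | succ n ih => rw [pow_succ, mul_smul, k0_repL, ih (pow_mem (mem_cen_iff.2 rfl) n)]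

/-- The kernel is generated by the element and negation. -/
theorem toSL_eq_one {c : cen} (h : toSL c = 1) :
    ∃ n : ℕ, (c : Co0) = k0 ^ n ∨ (c : Co0) = negCo * k0 ^ n := by
  have hM : mat3 c = 1 := congrArg Subtype.val h
  have hact : ∀ a, act c (comb a) = comb a := fun a => by rw [act_comb, hM, one_mulVec]
  have hp : k0 • pt8 none = pt8 none := by rw [k0_pt8, sigma_apply, coord_checks.2.2.2.2.1]
  have hpv : ((pt8 none : leechLattice) : GolayPt → ℤ) = spread (q 0) := coord_checks.2.2.2.1.symm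
  have hcs : (c : Co0) ∈ crossStab := by
    refine cong_of_sig (fixed_smul c hp) hp ?_
    rw [← act_sig c hp, hpv, coord_checks.2.2.2.2.2, hact]
  obtain ⟨τ, hτ, w, hw, e⟩ := exists_mono_of_mem_crossStab hcs
  have hrel : monoCo τ hτ w hw * k0 = k0 ^ 1 * monoCo τ hτ w hw := by
    rw [pow_one, ← e]; exact mem_cen_iff.1 c.2
  obtain ⟨hτc, hwi⟩ := mono_rel hτ hw hrel
  obtain ⟨-, k', n, hτ'⟩ := classify hτ true hτc
  have hwσ : ∀ p, w (sigma p) = w p := fun p => by
    have := hwi (sigma p); simpa using this.symm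
  obtain ⟨u, rfl⟩ : ∃ u, w = spread u := ⟨_, eq_spread w hwσ⟩
  let v : Fin 3 → ZMod 2 := fun k => u ⟨k.val, by omega⟩
  have hu : u = v6 v := by
    funext a
    have h0 := word_pair hw
    fin_cases a
    exacts [rfl, rfl, rfl, (h0 0).symm, (h0 1).symm, (h0 2).symm]
  have hc : (c : Co0) = monoE k' v * k0 ^ n := by
    rw [e, k0_pow, monoE, monoCo_mul]
    refine co0_ext_pt8 fun i => ?_
    rw [monoCo_smul_pt8, monoCo_smul_pt8, hu, hτ']
    simp <;> rfl
  have hn : k0 ^ n ∈ cen := pow_mem (mem_cen_iff.2 rfl) n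
  have hcc : c = monoC k' v * ⟨_, hn⟩ := Subtype.ext hc
  obtain ⟨rfl, hv⟩ := kernel_checks.1 k' v fun j => by
    have := hact (Pi.single j 1)
    rwa [comb_single, hcc, act_mul, act_k0_pow, act_monoC] at this
  refine ⟨n, ?_⟩
  rcases hv with hv | hv <;> rw [hc, hv]
  exacts [Or.inl (by rw [monoE_zero_zero, one_mul]), Or.inr (by rw [monoE_zero_one])]

end Cfsg.Agent.Lib.MonsterType.Held
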