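import Cfsg.Agent.Lib.MonsterType.OddQuot
import Cfsg.Agent.Lib.MonsterType.Held.Phi
import Cfsg.Agent.Lib.LinGroup.Simple
import Cfsg.Agent.Lib.LinGroup.Order

/-!
An element `b` of `C(z)` over the element of order 7: the action of the joint centraliser, and the
centraliser of `b` in the extraspecial group.
-/

set_option autoImplicit false

namespace Cfsg.Agent.Lib.MonsterType.Held

open Cfsg
open Cfsg.Agent.Lib
open Cfsg.Agent.Lib.Leech
open Cfsg.Agent.Lib.LargeExtra

local notation "SL32" => Matrix.SpecialLinearGroup (Fin 3) (ZMod 2)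

theorem isSimpleGroup_SL32 : IsSimpleGroup SL32 := by
  have hc : Subgroup.center SL32 = ⊥ := by
    refine Subgroup.eq_bot_of_card_eq _ ?_
    rw [LinGroup.card_center_SL, Fintype.card_fin, LinGroup.card_units_eq_sub_one, ZMod.card]
    rfl
  exact ((QuotientGroup.quotientMulEquivOfEq hc).trans QuotientGroup.quotientBot).isSimpleGroup_congr.1
    (LinGroup.isSimpleGroup_PSL (F := ZMod 2) (ι := Fin 3) (by simp))

theorem k0_pow_seven : k0 ^ 7 = 1 := by
  rw [k0_pow]
  refine co0_ext_pt8 fun x => ?_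
  rw [monoCo_smul_pt8, one_smul, sigma_pow_seven]
  simp

theorem mk_k0_ne_one : (QuotientGroup.mk k0 : Spor.Co1) ≠ 1 := by
  intro h
  rcases center_cases ((QuotientGroup.eq_one_iff k0).1 h) with r | r
  · refine sigma_ne_one (monoCo_injective (hσ := sigma_mem) (hσ' := one_mem M24)
      (hw₁ := zero_mem _) (hw₂ := zero_mem _) (w := 0) (w' := 0) ?_).1
    refine r.trans (co0_ext fun v => ?_)
    rw [monoCo_smul, one_smul]
    funext p
    simp [signedPerm, support₂]
    rfl
  · have h7 := k0_pow_seven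
    rw [r, pow_succ, show (6 : ℕ) = 2 * 3 from rfl, pow_mul, pow_two,
      signs_sq negCo_mem_signs, one_pow, one_mul] at h7
    exact negCo_ne_one h7

theorem negCo_mem_cen : negCo ∈ cen :=
  mem_cen_iff.2 (Subgroup.mem_center_iff.1 negCo_mem_center k0).symm

theorem toSL_negCo : toSL ⟨negCo, negCo_mem_cen⟩ = 1 := by
  refine Subtype.ext ?_
  show mat3 _ = 1
  ext i j
  show coord (act _ (bas j)) i = _
  rw [act, negCo_smul, sig_cong (cong_neg _), sig_repL, ← mat3_one]
  show _ = coord (act 1 (bas j)) i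
  rw [act_one]

theorem k0_mem_cen : k0 ∈ cen := mem_cen_iff.2 rfl

theorem toSL_k0 : toSL ⟨k0, k0_mem_cen⟩ = 1 := by
  refine Subtype.ext ?_
  show mat3 _ = 1
  ext i j
  show coord (act _ (bas j)) i = _
  rw [act, k0_repL, sig_repL, ← mat3_one]
  show _ = coord (act 1 (bas j)) i
  rw [act_one]

/-- The centraliser of the element, in `Co1`. -/
noncomputable def cen₁ : cen →* Spor.Co1 := (QuotientGroup.mk' (Subgroup.center Co0)).comp cen.subtype

theorem cen₁_ker_le : cen₁.rangeRestrict.ker ≤ toSL.ker := by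
  intro x hx
  rw [MonoidHom.ker_rangeRestrict, MonoidHom.mem_ker] at hx
  rcases center_cases ((QuotientGroup.eq_one_iff (x : Co0)).1 hx) with r | r
  · rw [show x = 1 from Subtype.ext r]; exact one_mem _
  · rw [show x = ⟨negCo, negCo_mem_cen⟩ from Subtype.ext r, MonoidHom.mem_ker]
    exact toSL_negCo

/-- The map onto `SL(3, 2)`, read in `Co1`. -/
noncomputable def toSL₁ : cen₁.range →* SL32 :=
  cen₁.rangeRestrict.liftOfSurjective cen₁.rangeRestrict_surjective ⟨toSL, cen₁_ker_le⟩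

theorem toSL₁_spec (x : cen) : toSL₁ (cen₁.rangeRestrict x) = toSL x :=
  MonoidHom.liftOfRightInverse_comp_apply _ _ _ _ x

section

variable {G : Type*} [Group G] [Finite G] {z : G} {R : Subgroup G} (D : MData z R)
  {b : ↥(Subgroup.centralizer ({z} : Set G))} (hbp : b ^ 7 = 1) (hπ : D.π b = QuotientGroup.mk k0)

omit [Finite G] in
theorem hzb (b : ↥(Subgroup.centralizer ({z} : Set G))) : z * (b : G) = b * z :=
  (Subgroup.mem_centralizer_singleton_iff.1 b.2).symm

theorem coe_pow_eq_one {b : ↥(Subgroup.centralizer ({z} : Set G))} (hbp : b ^ 7 = 1) :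
    (b : G) ^ 7 = 1 := by
  simpa using congrArg Subtype.val hbp

include D hbp hπ

theorem cz_le_cen {c : ↥(Subgroup.centralizer ({z} : Set G))} (hcb : c * b = b * c) {k : Co0}
    (hk : D.π c = QuotientGroup.mk k) : k ∈ cen :=
  haveI : Fact (Nat.Prime 7) := ⟨by norm_num⟩
  mem_cen_iff.2 (comm_of_centralizing D (by norm_num) hbp hπ k0_pow_seven hcb hk)

theorem pi_mem_range (c : cz z (b : G)) :
    D.π (Subgroup.inclusion inf_le_left c) ∈ cen₁.range := by
  obtain ⟨k, hk⟩ := QuotientGroup.mk_surjective (D.π (Subgroup.inclusion inf_le_left c))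
  exact ⟨⟨k, cz_le_cen D hbp hπ (Subtype.ext (OddQuot.mem_cz_iff.1 c.2).2) hk.symm⟩, hk⟩

/-- The action of the joint centraliser. -/
noncomputable def toL : cz z (b : G) →* SL32 :=
  toSL₁.comp ((D.π.comp (Subgroup.inclusion inf_le_left)).codRestrict cen₁.range (pi_mem_range D hbp hπ))

theorem toL_eq {c : cz z (b : G)} {k : cen}
    (hk : D.π (Subgroup.inclusion inf_le_left c) = QuotientGroup.mk (k : Co0)) :
    toL D hbp hπ c = toSL k := by
  rw [← toSL₁_spec]
  exact congrArg toSL₁ (Subtype.ext hk)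

theorem toL_surjective : Function.Surjective (toL D hbp hπ) := by
  haveI : Fact (Nat.Prime 7) := ⟨by norm_num⟩
  intro g
  obtain ⟨k, rfl⟩ := toSL_surjective g
  obtain ⟨c, hc, hcb⟩ := exists_lift D (by norm_num : (7 : ℕ) ≠ 2) hbp hπ mk_k0_ne_one (k' := k)
    (n := 1) (by norm_num) (by rw [mem_cen_iff.1 k.2, mul_inv_cancel_right, pow_one])
  rw [pow_one] at hcb
  refine ⟨⟨c, OddQuot.mem_cz_iff.2 ⟨Subgroup.mem_centralizer_singleton_iff.1 c.2,
    conj_eq_iff_comm.1 (congrArg Subtype.val hcb)⟩⟩, toL_eq D hbp hπ hc⟩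

theorem toL_eq_one_iff (c : cz z (b : G)) :
    toL D hbp hπ c = 1 ↔ ∃ i : ℤ, (c : G) * ((b : G) ^ i)⁻¹ ∈ R := by
  have hb : ∀ i : ℤ, toL D hbp hπ (⟨(b : G), OddQuot.b_mem_cz (hzb b)⟩ ^ i) = 1 := fun i => by
    rw [map_zpow, toL_eq D hbp hπ (k := ⟨k0, k0_mem_cen⟩) hπ, toSL_k0, one_zpow]
  constructor
  · intro h
    obtain ⟨k, hk⟩ := QuotientGroup.mk_surjective (D.π (Subgroup.inclusion inf_le_left c))
    have hkc := cz_le_cen D hbp hπ (Subtype.ext (OddQuot.mem_cz_iff.1 c.2).2) hk.symm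
    rw [toL_eq D hbp hπ (k := ⟨k, hkc⟩) hk.symm] at h
    obtain ⟨n, hn⟩ := toSL_eq_one h
    refine ⟨n, ?_⟩
    have hπc : D.π (Subgroup.inclusion inf_le_left c) = D.π b ^ n := by
      rw [← hk, hπ, ← QuotientGroup.mk_pow]
      rcases hn with e | e <;> rw [show k = _ from e]
      rw [QuotientGroup.mk_mul, (QuotientGroup.eq_one_iff negCo).2 negCo_mem_center, one_mul]
    have := (D.π_eq_one (Subgroup.inclusion inf_le_left c * (b ^ n)⁻¹)).1
      (by rw [map_mul, map_inv, map_pow, hπc, mul_inv_cancel])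
    simpa using this
  · rintro ⟨i, hi⟩
    let q : cz z (b : G) := c * (⟨(b : G), OddQuot.b_mem_cz (hzb b)⟩ ^ i)⁻¹
    have hq : toL D hbp hπ q = 1 := by
      rw [toL_eq D hbp hπ (k := 1), map_one]
      rw [OneMemClass.coe_one, QuotientGroup.mk_one, D.π_eq_one]
      simpa [q] using hi
    rw [map_mul, map_inv, hb, inv_one, mul_one] at hq
    exact hq

/-- Elements of `R` commuting with `b` are lifts of representatives. -/
theorem commute_iff {q : G} (hq : q ∈ R) :
    q * (b : G) = b * q ↔ ∃ s, D.lift (repL s) q := by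
  haveI : Fact (Nat.Prime 7) := ⟨by norm_num⟩
  rw [commute_iff_fixed D (by norm_num : (7 : ℕ) ≠ 2) hbp hπ k0_pow_seven hq]
  constructor
  · rintro ⟨v, hv, hl⟩
    exact ⟨_, (D.lift_cong hl _).2 (cong_rep hv).symm⟩
  · rintro ⟨s, hs⟩
    exact ⟨_, k0_repL s, hs⟩

omit hbp hπ in
theorem lift_repL_unique {s t : Fin 6 → ZMod 2} {q : G} (hs : D.lift (repL s) q)
    (ht : D.lift (repL t) q) : s = t := by
  have := sig_cong ((D.lift_cong ht _).1 hs)
  rwa [sig_repL, sig_repL] at this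

theorem mem_cz_of_lift {s : Fin 6 → ZMod 2} {q : G} (hs : D.lift (repL s) q) : q ∈ cz z (b : G) :=
  OddQuot.mem_cz_iff.2 ⟨D.good.le_cent q (D.lift_mem hs),
    (commute_iff D hbp hπ (D.lift_mem hs)).2 ⟨s, hs⟩⟩

/-- The centraliser of `b` in `R` has order `2^7`. -/
theorem card_fix : Nat.card (R.subgroupOf (cz z (b : G))) = 2 ^ 7 := by
  choose X hX using fun s => D.lift_left (repL s)
  have hXz : ∀ (s : Fin 6 → ZMod 2) (t : Bool), D.lift (repL s) (if t then X s * z else X s) := by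
    intro s t
    cases t
    · exact hX s
    · exact (D.lift_pair (hX s) _).2 (Or.inr rfl)
  let f : (Fin 6 → ZMod 2) × Bool → R.subgroupOf (cz z (b : G)) := fun a =>
    ⟨⟨_, mem_cz_of_lift D hbp hπ (hXz a.1 a.2)⟩, D.lift_mem (hXz a.1 a.2)⟩
  have hf : Function.Bijective f := by
    constructor
    · rintro ⟨s, t⟩ ⟨s', t'⟩ h
      have e : (if t then X s * z else X s) = if t' then X s' * z else X s' :=
        congrArg (fun q : R.subgroupOf (cz z (b : G)) => ((q : cz z (b : G)) : G)) h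
      obtain rfl : s = s' := lift_repL_unique D (hXz s t) (e ▸ hXz s' t')
      have hz := D.good.x_ne
      cases t <;> cases t' <;> simp at e ⊢ <;> exact absurd e (by simpa using hz)
    · rintro ⟨⟨q, hqc⟩, hq⟩
      obtain ⟨s, hs⟩ := (commute_iff D hbp hπ hq).1 (OddQuot.mem_cz_iff.1 hqc).2
      rcases (D.lift_pair (hX s) _).1 hs with r | r
      · exact ⟨(s, false), Subtype.ext (Subtype.ext r.symm)⟩
      · exact ⟨(s, true), Subtype.ext (Subtype.ext r.symm)⟩
  rw [← Nat.card_eq_of_bijective f hf]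
  simp

/-- Only `1` and `z` commute with the whole centraliser. -/
theorem centre_fix {a : G} (ha : a ∈ R) (hab : a * (b : G) = b * a)
    (h : ∀ q ∈ R, q * (b : G) = b * q → a * q = q * a) : a = 1 ∨ a = z := by
  obtain ⟨s, hs⟩ := (commute_iff D hbp hπ ha).1 hab
  by_cases hs0 : s = 0
  · rw [hs0, repL_zero] at hs
    exact (D.lift_zero_iff a).1 hs
  exfalso
  obtain ⟨k, hk⟩ : ∃ k, s k ≠ 0 := Function.ne_iff.1 hs0
  haveI : Fact (Nat.Prime 7) := ⟨by norm_num⟩
  obtain ⟨q, hq⟩ := D.lift_left ⟨probe k, leechChk_sound (rep_checks.2.1 k)⟩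
  have hqb : q * (b : G) = b * q :=
    (commute_iff_fixed D (by norm_num : (7 : ℕ) ≠ 2) hbp hπ k0_pow_seven (D.lift_mem hq)).2
      ⟨_, fixed_of_spread (r := six (Data.probes.getD k.val [])) rfl, hq⟩
  have hdvd := (D.comm_iff hs hq).1 (h q (D.lift_mem hq) hqb).symm
  have hsig : sig (repL s : GolayPt → ℤ) k = s k := by rw [sig_repL]
  refine hk (hsig.symm.trans ?_)
  obtain ⟨c, hc⟩ := hdvd
  show ((dotInt (repL s : GolayPt → ℤ) (probe k) / 8 : ℤ) : ZMod 2) = 0
  rw [ZMod.intCast_zmod_eq_zero_iff_dvd]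
  exact ⟨c, by rw [show dotInt (repL s : GolayPt → ℤ) (probe k) = 16 * c from hc]; omega⟩

/-- Elements centralising the centraliser of `b` in `R` act trivially. -/
theorem toL_of_centralizing {c : cz z (b : G)}
    (h : ∀ q ∈ R, q * (b : G) = b * q → (c : G) * q = q * c) : toL D hbp hπ c = 1 := by
  obtain ⟨k, hk⟩ := QuotientGroup.mk_surjective (D.π (Subgroup.inclusion inf_le_left c))
  have hkc := cz_le_cen D hbp hπ (Subtype.ext (OddQuot.mem_cz_iff.1 c.2).2) hk.symm
  rw [toL_eq D hbp hπ (k := ⟨k, hkc⟩) hk.symm]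
  refine Subtype.ext ?_
  show mat3 _ = 1
  rw [← mat3_one]
  ext i j
  show coord (act _ (bas j)) i = coord (act 1 (bas j)) i
  obtain ⟨q, hq⟩ := D.lift_left (repL (bas j))
  have hcq := h q (D.lift_mem hq) ((commute_iff D hbp hπ (D.lift_mem hq)).2 ⟨_, hq⟩)
  have hl := D.lift_conj _ k hk.symm hq
  rw [Subgroup.coe_inclusion, hcq, mul_inv_cancel_right] at hl
  rw [act_one, act, sig_cong ((D.lift_cong hq _).1 hl), sig_repL]

end

end Cfsg.Agent.Lib.MonsterType.Held
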