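import Mathlib.Init

/-!
Certificate data for the centraliser of an element of order 7 with cycle shape `1^3 7^3`.
-/

set_option autoImplicit false

namespace Cfsg.Agent.Lib.MonsterType.Held.Data

/-- The element of order 7. -/
def sigmaList : List Nat := [0, 6, 12, 5, 1, 21, 3, 2, 19, 10, 15, 22, 13, 9, 14, 7, 4, 8, 11, 20, 18, 16, 17, 23]

/-- A permutation inducing squaring. -/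
def sqList : List Nat := [0, 1, 10, 21, 16, 4, 3, 13, 22, 9, 15, 17, 7, 12, 14, 2, 5, 18, 11, 8, 20, 6, 19, 23]

/-- Orbit and position of each point. -/
def orbPos : List (Nat × Nat) := [(0, 0), (3, 0), (4, 0), (3, 2), (3, 6), (3, 3), (3, 1), (4, 6), (5, 0), (4, 3), (4, 4), (5, 4), (4, 1), (4, 2), (1, 0), (4, 5), (3, 5), (5, 6), (5, 3), (5, 1), (5, 2), (3, 4), (5, 5), (2, 0)]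

/-- The orbits. -/
def orbits : List (List Nat) := [[0],
   [14],
   [23],
   [1, 6, 3, 5, 21, 16, 4],
   [2, 12, 13, 9, 10, 15, 7],
   [8, 19, 20, 18, 11, 22, 17]]

/-- Permutations commuting with the element, one for each permutation of its three fixed points. -/
def swaps : List (List Nat) :=
  [[0, 1, 2, 3, 4, 5, 6, 7, 8, 9, 10, 11, 12, 13, 14, 15, 16, 17, 18, 19, 20, 21, 22, 23],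
   [0, 1, 17, 3, 4, 5, 6, 22, 12, 20, 18, 15, 8, 19, 23, 11, 16, 2, 10, 13, 9, 21, 7, 14],
   [14, 2, 6, 13, 7, 9, 12, 1, 11, 21, 16, 19, 3, 5, 0, 4, 15, 18, 8, 22, 17, 10, 20, 23],
   [14, 2, 18, 13, 7, 9, 12, 20, 3, 17, 8, 4, 11, 22, 23, 19, 15, 6, 16, 5, 21, 10, 1, 0],
   [23, 8, 3, 20, 17, 18, 19, 6, 7, 16, 4, 9, 5, 21, 0, 1, 22, 15, 13, 2, 12, 11, 10, 14],
   [23, 8, 15, 20, 17, 18, 19, 10, 5, 12, 13, 1, 7, 2, 14, 9, 22, 3, 4, 21, 16, 11, 6, 0]]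

/-- A matrix commuting with the element. -/
def gRows : List (List Int) :=
  [[-2, 2, -2, 2, 2, 2, 2, -2, 0, -2, -2, 0, -2, -2, 2, -2, 2, 0, 0, 0, 0, 2, 0, 0],
   [-2, -2, -2, -2, 2, 2, -2, -2, 0, 2, 2, 0, 2, -2, 2, 2, -2, 0, 0, 0, 0, 2, 0, 0],
   [0, 0, 0, 0, 4, 0, 0, 0, -2, 0, 0, -2, 0, 4, 0, 0, 0, -2, 2, 2, 2, 0, 2, -2],
   [-2, -2, 2, -2, 2, -2, 2, 2, 0, 2, -2, 0, -2, -2, 2, 2, 2, 0, 0, 0, 0, -2, 0, 0],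
   [-2, -2, 2, 2, -2, 2, -2, -2, 0, 2, 2, 0, -2, 2, 2, -2, 2, 0, 0, 0, 0, -2, 0, 0],
   [-2, 2, 2, 2, 2, -2, -2, 2, 0, -2, 2, 0, 2, -2, 2, -2, -2, 0, 0, 0, 0, -2, 0, 0],
   [-2, 2, -2, -2, -2, -2, -2, 2, 0, -2, 2, 0, -2, 2, 2, 2, 2, 0, 0, 0, 0, 2, 0, 0],
   [0, 0, 0, 0, 0, 0, 0, 0, 2, 0, 0, 2, 4, 0, 0, 0, 4, -2, -2, 2, 2, 0, -2, -2],
   [0, -4, 0, 0, 0, 0, 0, 0, -2, -4, 0, 2, 0, 0, 0, 0, 0, 2, 2, -2, 2, 0, -2, -2],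
   [0, 0, 0, 4, 0, 0, 0, 0, -2, 0, 0, 2, 0, 0, 0, 4, 0, 2, -2, 2, -2, 0, 2, -2],
   [0, 0, 0, 0, 0, 4, 0, 4, 2, 0, 0, -2, 0, 0, 0, 0, 0, 2, -2, -2, 2, 0, 2, -2],
   [0, 0, -4, 0, 0, 0, 0, 0, 2, 0, 0, -2, 0, 0, 0, 0, 0, 2, 2, 2, -2, -4, -2, -2],
   [0, 4, 0, 0, 0, 0, 0, 0, -2, 4, 0, 2, 0, 0, 0, 0, 0, 2, 2, -2, 2, 0, -2, -2],
   [0, 0, 0, 0, 0, 0, 4, 0, 2, 0, 4, 2, 0, 0, 0, 0, 0, -2, 2, -2, -2, 0, 2, -2],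
   [4, 0, 0, 0, 0, 0, 0, 0, 2, 0, 0, 2, 0, 0, 4, 0, 0, 2, 2, 2, 2, 0, 2, 2],
   [0, 0, 4, 0, 0, 0, 0, 0, 2, 0, 0, -2, 0, 0, 0, 0, 0, 2, 2, 2, -2, 4, -2, -2],
   [-2, -2, -2, 2, -2, -2, 2, 2, 0, 2, -2, 0, 2, 2, 2, -2, -2, 0, 0, 0, 0, 2, 0, 0],
   [0, 0, 0, 0, -4, 0, 0, 0, -2, 0, 0, -2, 0, -4, 0, 0, 0, -2, 2, 2, 2, 0, 2, -2],
   [0, 0, 0, 0, 0, -4, 0, -4, 2, 0, 0, -2, 0, 0, 0, 0, 0, 2, -2, -2, 2, 0, 2, -2],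
   [0, 0, 0, 0, 0, 0, -4, 0, 2, 0, -4, 2, 0, 0, 0, 0, 0, -2, 2, -2, -2, 0, 2, -2],
   [0, 0, 0, -4, 0, 0, 0, 0, -2, 0, 0, 2, 0, 0, 0, -4, 0, 2, -2, 2, -2, 0, 2, -2],
   [-2, 2, 2, -2, -2, 2, 2, -2, 0, -2, -2, 0, 2, 2, 2, 2, -2, 0, 0, 0, 0, -2, 0, 0],
   [0, 0, 0, 0, 0, 0, 0, 0, 2, 0, 0, 2, -4, 0, 0, 0, -4, -2, -2, 2, 2, 0, -2, -2],
   [-4, 0, 0, 0, 0, 0, 0, 0, 2, 0, 0, 2, 0, 0, -4, 0, 0, 2, 2, 2, 2, 0, 2, 2]]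

/-- A matrix inverting the element. -/
def jRows : List (List Int) :=
  [[6, -2, 0, -2, -2, -2, -2, 0, 0, 0, 0, 0, 0, 0, 0, 0, -2, 0, 0, 0, 0, -2, 0, 0],
   [-2, -2, 0, -2, 6, -2, -2, 0, 0, 0, 0, 0, 0, 0, 0, 0, -2, 0, 0, 0, 0, -2, 0, 0],
   [0, 0, -2, 0, 0, 0, 0, -2, 2, 2, 2, 2, 2, -2, -2, 2, 0, -2, 2, -2, 2, 0, -2, -2],
   [-2, -2, 0, -2, -2, -2, -2, 0, 0, 0, 0, 0, 0, 0, 0, 0, -2, 0, 0, 0, 0, 6, 0, 0],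
   [-2, 6, 0, -2, -2, -2, -2, 0, 0, 0, 0, 0, 0, 0, 0, 0, -2, 0, 0, 0, 0, -2, 0, 0],
   [-2, -2, 0, -2, -2, 6, -2, 0, 0, 0, 0, 0, 0, 0, 0, 0, -2, 0, 0, 0, 0, -2, 0, 0],
   [-2, -2, 0, -2, -2, -2, -2, 0, 0, 0, 0, 0, 0, 0, 0, 0, 6, 0, 0, 0, 0, -2, 0, 0],
   [0, 0, -2, 0, 0, 0, 0, 2, -2, -2, 2, 2, -2, 2, -2, 2, 0, -2, 2, 2, -2, 0, 2, -2],
   [0, 0, 2, 0, 0, 0, 0, -2, 2, 2, 2, 2, -2, 2, -2, -2, 0, -2, -2, -2, -2, 0, 2, 2],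
   [0, 0, 2, 0, 0, 0, 0, -2, 2, -2, -2, 2, 2, 2, -2, 2, 0, 2, -2, 2, -2, 0, -2, -2],
   [0, 0, 2, 0, 0, 0, 0, 2, 2, -2, 2, -2, 2, -2, -2, -2, 0, 2, 2, -2, -2, 0, 2, -2],
   [0, 0, 2, 0, 0, 0, 0, 2, 2, 2, -2, -2, -2, -2, -2, 2, 0, -2, 2, 2, -2, 0, -2, 2],
   [0, 0, 2, 0, 0, 0, 0, -2, -2, 2, 2, -2, -2, 2, -2, -2, 0, 2, 2, 2, 2, 0, -2, -2],
   [0, 0, -2, 0, 0, 0, 0, 2, 2, 2, -2, -2, 2, 2, -2, -2, 0, -2, -2, 2, 2, 0, 2, -2],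
   [0, 0, -2, 0, 0, 0, 0, -2, -2, -2, -2, -2, -2, -2, -2, -2, 0, -2, -2, -2, -2, 0, -2, -2],
   [0, 0, 2, 0, 0, 0, 0, 2, -2, 2, -2, 2, -2, -2, -2, 2, 0, 2, -2, -2, 2, 0, 2, -2],
   [-2, -2, 0, -2, -2, -2, 6, 0, 0, 0, 0, 0, 0, 0, 0, 0, -2, 0, 0, 0, 0, -2, 0, 0],
   [0, 0, -2, 0, 0, 0, 0, -2, -2, 2, 2, -2, 2, -2, -2, 2, 0, 2, -2, 2, -2, 0, 2, 2],
   [0, 0, 2, 0, 0, 0, 0, 2, -2, -2, 2, 2, 2, -2, -2, -2, 0, -2, -2, 2, 2, 0, -2, 2],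
   [0, 0, -2, 0, 0, 0, 0, 2, -2, 2, -2, 2, 2, 2, -2, -2, 0, 2, 2, -2, -2, 0, -2, 2],
   [0, 0, 2, 0, 0, 0, 0, -2, -2, -2, -2, -2, 2, 2, -2, 2, 0, -2, 2, -2, 2, 0, 2, 2],
   [-2, -2, 0, 6, -2, -2, -2, 0, 0, 0, 0, 0, 0, 0, 0, 0, -2, 0, 0, 0, 0, -2, 0, 0],
   [0, 0, -2, 0, 0, 0, 0, 2, 2, -2, 2, -2, -2, 2, -2, 2, 0, 2, -2, -2, 2, 0, -2, 2],
   [0, 0, -2, 0, 0, 0, 0, -2, 2, -2, -2, 2, -2, -2, -2, -2, 0, 2, 2, 2, 2, 0, 2, 2]]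

/-- Generators of the fixed vectors. -/
def gens : List (List Int) := [[2, 0, 0, 2, 0, 0],
   [0, 0, 2, 0, 0, 2],
   [0, 2, 0, 0, 2, 0],
   [4, 0, 4, 0, 0, 0],
   [0, 4, 4, 0, 0, 0],
   [0, 0, 4, 4, 0, 0],
   [0, 0, 4, 0, 4, 0],
   [0, 0, 4, 0, 0, 4],
   [0, 0, 8, 0, 0, 0],
   [-3, -1, -1, 1, -1, -1]]

/-- Probes separating the classes. -/
def probes : List (List Int) := [[-4, -4, 0, 0, 0, 0],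
   [-4, 0, -4, 0, 0, 0],
   [-4, 0, 4, 0, 0, 0],
   [-3, -1, -1, 1, -1, -1],
   [-3, -1, 1, 1, -1, 1],
   [-3, 1, -1, 1, 1, -1]]

/-- Representatives of the classes, by the values on the probes. -/
def reps : List (List Int) :=
  [[0, 0, 0, 0, 0, 0],
   [0, -2, 0, 0, -2, 0],
   [-3, -1, 1, 1, -1, 1],
   [-3, 1, 1, 1, 1, 1],
   [-3, -1, -1, 1, -1, -1],
   [-3, 1, -1, 1, 1, -1],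
   [0, 0, -2, 0, 0, -2],
   [-6, 0, 0, 2, 0, 0],
   [0, -4, -4, 0, 0, 0],
   [0, -2, -4, 0, 2, 0],
   [-5, -3, 3, -1, 1, -1],
   [-3, -3, -3, 1, 1, 1],
   [-3, 3, 3, 1, -1, -1],
   [-5, 3, -3, -1, -1, 1],
   [0, -4, -2, 0, 0, 2],
   [-2, -4, 4, -2, 0, 0],
   [-4, 0, -4, 0, 0, 0],
   [-4, -2, -4, 0, -2, 0],
   [-1, 1, -5, -1, 1, -1],
   [-1, -1, -5, -1, -1, -1],
   [-1, 1, -3, -1, 1, 1],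
   [-1, -1, -3, -1, -1, 1],
   [-4, 0, -2, 0, 0, 2],
   [-2, 0, 4, 2, 0, 0],
   [-4, 4, 0, 0, 0, 0],
   [-4, 2, 0, 0, -2, 0],
   [-1, 5, -1, -1, 1, -1],
   [-1, 3, -1, -1, -1, -1],
   [-1, 5, 1, -1, 1, 1],
   [-1, 3, 1, -1, -1, 1],
   [-4, 4, -2, 0, 0, -2],
   [-2, -4, 0, 2, 0, 0],
   [-4, -4, 0, 0, 0, 0],
   [-4, -2, 0, 0, 2, 0],
   [-1, -3, -1, -1, 1, -1],
   [-1, -5, -1, -1, -1, -1],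
   [-1, -3, 1, -1, 1, 1],
   [-1, -5, 1, -1, -1, 1],
   [-4, -4, -2, 0, 0, -2],
   [-2, 4, 0, 2, 0, 0],
   [-4, 0, 4, 0, 0, 0],
   [-4, -2, 4, 0, -2, 0],
   [-1, 1, 3, -1, 1, -1],
   [-1, -1, 3, -1, -1, -1],
   [-1, 1, 5, -1, 1, 1],
   [-1, -1, 5, -1, -1, 1],
   [-4, 0, 2, 0, 0, -2],
   [-2, 0, -4, 2, 0, 0],
   [0, -4, 4, 0, 0, 0],
   [0, -2, 4, 0, 2, 0],
   [-3, 3, -3, 1, -1, 1],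
   [-5, 3, 3, -1, -1, -1],
   [-5, -3, -3, -1, 1, 1],
   [-3, -3, 3, 1, 1, -1],
   [0, -4, 2, 0, 0, -2],
   [-2, -4, -4, -2, 0, 0],
   [-8, 0, 0, 0, 0, 0],
   [-2, 0, -2, -2, 0, -2],
   [-5, 1, -1, -1, 1, -1],
   [-5, -1, -1, -1, -1, -1],
   [-5, 1, 1, -1, 1, 1],
   [-5, -1, 1, -1, -1, 1],
   [-2, -2, 0, -2, -2, 0],
   [-2, 0, 0, -2, 0, 0]]

/-- An orbit of seven classes. -/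
def orbitQ : List (List Int) := [[0, 0, 8, 0, 0, 0],
   [-4, -4, 2, 0, 0, 2],
   [-2, -4, -4, -2, 0, 0],
   [4, -4, -2, 0, 0, -2],
   [-2, 0, 2, 2, 0, -2],
   [-4, 2, 4, 0, 2, 0],
   [0, -2, -2, 0, 2, 2],
   [0, 0, -8, 0, 0, 0]]

/-- Its image under the inverting matrix. -/
def orbitJ : List (List Int) := [[0, -2, 2, 0, -2, 2],
   [-3, -3, 5, 1, 1, 1],
   [2, 2, 0, 2, 2, 0],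
   [3, 5, -3, -1, 1, 1],
   [-5, 3, -3, -1, -1, 1],
   [-3, -5, -3, 1, -1, 1],
   [0, -6, 0, 0, 2, 0]]

end Cfsg.Agent.Lib.MonsterType.Held.Data
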