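import Cfsg.Agent.Lib.MonsterType.Held.Points

/-!
The two matrices and their checks.
-/

set_option autoImplicit false

namespace Cfsg.Agent.Lib.MonsterType.Held

open Cfsg
open Cfsg.Agent.Lib
open Cfsg.Agent.Lib.Leech

/-- The matrix commuting with the element. -/
def gM : GolayPt → GolayPt → ℤ := fun j i =>
  (Data.gRows.getD (Golay.idx j).val []).getD (Golay.idx i).val 0

/-- The matrix inverting the element. -/
def jM : GolayPt → GolayPt → ℤ := fun j i =>
  (Data.jRows.getD (Golay.idx j).val []).getD (Golay.idx i).val 0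

set_option maxHeartbeats 2000000 in
theorem gM_ok : (matOk gM ∧ matOk fun i k => gM k i) ∧
    (∀ j k, (∑ i, gM j i * gM k i) = if j = k then 64 else 0) ∧
    (∀ j k, (∑ i, gM i j * gM i k) = if j = k then 64 else 0) ∧
    ∀ i p, gM (sigmaF i) (sigmaF p) = gM i p := by
  simp only [matOk]
  decide +kernel

set_option maxHeartbeats 2000000 in
theorem jM_ok : (matOk jM ∧ matOk fun i k => jM k i) ∧
    (∀ j k, (∑ i, jM j i * jM k i) = if j = k then 64 else 0) ∧
    (∀ j k, (∑ i, jM i j * jM i k) = if j = k then 64 else 0) ∧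
    ∀ i p, jM (sigmaF i) p = jM i (sigmaF p) := by
  simp only [matOk]
  decide +kernel

end Cfsg.Agent.Lib.MonsterType.Held
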