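import Cfsg.Agent.Lib.MonsterType.Held.Fixed
import Cfsg.Agent.Lib.MonsterType.Held.Mats
import Cfsg.Agent.Lib.MonsterType.CrossImage

/-!
Elements of `Co0` commuting with the element of order 7 or powering it, and the action of its
centraliser on the fixed classes.
-/

set_option autoImplicit false

namespace Cfsg.Agent.Lib.MonsterType.Held

open Cfsg
open Cfsg.Agent.Lib
open Cfsg.Agent.Lib.Leech

/-- The automorphism commuting with the element. -/
noncomputable def gCo : Co0 := matCo gM gM_ok.1.1 gM_ok.1.2 gM_ok.2.1 gM_ok.2.2.1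

/-- The automorphism inverting the element. -/
noncomputable def jCo : Co0 := matCo jM jM_ok.1.1 jM_ok.1.2 jM_ok.2.1 jM_ok.2.2.1

theorem matCo_smul (M : GolayPt → GolayPt → ℤ) (hM hT h1 h2) (v : leechLattice) :
    ((matCo M hM hT h1 h2 • v : leechLattice) : GolayPt → ℤ) = matMap M (v : GolayPt → ℤ) := rfl

theorem matCo_pt8 (M : GolayPt → GolayPt → ℤ) (hM hT h1 h2) (i : GolayPt) :
    ((matCo M hM hT h1 h2 • pt8 i : leechLattice) : GolayPt → ℤ) = M i := by
  rw [matCo_smul]
  funext p
  simp only [matMap, matNum, pt8, vec8]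
  rw [Finset.sum_eq_single i]
  · rw [Pi.single_eq_same]; omega
  · intro j _ hj; rw [Pi.single_eq_of_ne hj, zero_mul]
  · simp

theorem k0_pt8 (i : GolayPt) : k0 • pt8 i = pt8 (sigma i) := by
  rw [k0, monoCo_smul_pt8]
  simp

theorem gCo_comm : gCo * k0 = k0 * gCo := by
  refine co0_ext_pt8 fun i => Subtype.ext (funext fun q => ?_)
  obtain ⟨p, rfl⟩ := sigma.surjective q
  rw [mul_smul, mul_smul, k0_pt8, gCo, matCo_pt8, k0_smul, matCo_pt8, sigma_apply, sigma_apply]
  exact gM_ok.2.2.2 i p

theorem jCo_conj : k0 * jCo * k0 = jCo := by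
  refine co0_ext_pt8 fun i => Subtype.ext (funext fun q => ?_)
  obtain ⟨p, rfl⟩ := sigma.surjective q
  rw [mul_smul, mul_smul, k0_pt8, k0_smul, jCo, matCo_pt8, matCo_pt8, sigma_apply, sigma_apply]
  exact jM_ok.2.2.2 i p

/-- The swaps of the fixed points, as permutations. -/
noncomputable def swapPerm (k : Fin 6) : Equiv.Perm GolayPt := Golay.toPerm (Data.swaps.getD k.val [])

/-- The orbit maps of the swaps. -/
def osw (k a : Fin 6) : Fin 6 := orb (Golay.listFun (Data.swaps.getD k.val []) (base a))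

/-- Their inverses. -/
def osi (k a : Fin 6) : Fin 6 :=
  ((List.finRange 6).find? fun b => osw k b == a).getD 0

set_option maxHeartbeats 2000000 in
theorem swap_facts : ∀ k : Fin 6, Golay.inM24 (Data.swaps.getD k.val []) = true ∧
    (∀ p, Golay.listFun (Data.swaps.getD k.val []) (sigmaF p) =
      sigmaF (Golay.listFun (Data.swaps.getD k.val []) p)) ∧
    (∀ p, orb (Golay.listFun (Data.swaps.getD k.val []) p) = osw k (orb p)) ∧
    (∀ a, osi k (osw k a) = a) := by
  decide +kernel

theorem swap_mem (k : Fin 6) : swapPerm k ∈ M24 := Golay.toPerm_mem_M24 (swap_facts k).1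

theorem swap_apply (k : Fin 6) (p : GolayPt) :
    swapPerm k p = Golay.listFun (Data.swaps.getD k.val []) p :=
  Golay.toPerm_apply (Golay.inM24.valid (swap_facts k).1) p

theorem swap_comm (k : Fin 6) : swapPerm k * sigma = sigma * swapPerm k :=
  Equiv.ext fun p => by
    rw [Equiv.Perm.mul_apply, Equiv.Perm.mul_apply, sigma_apply, sigma_apply, swap_apply, swap_apply]
    exact (swap_facts k).2.1 p

theorem orb_swap (k : Fin 6) (p : GolayPt) : orb (swapPerm k p) = osw k (orb p) := by
  rw [swap_apply]; exact (swap_facts k).2.2.1 p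

theorem exists_swap : ∀ f : Fin 3 → Fin 3, Function.Injective f → ∃ k, ∀ a, pair6 f a = osw k a := by
  decide +kernel

/-- The permutations commuting with the element, or powering it to a sign. -/
theorem classify {τ : Equiv.Perm GolayPt} (hτ : τ ∈ M24) (e : Bool)
    (hc : τ * sigma = sigma ^ (bif e then 1 else 6) * τ) :
    e = true ∧ ∃ k, ∃ n : ℕ, τ = swapPerm k * sigma ^ n := by
  obtain ⟨f, hf, ho⟩ := orbit_map hτ (by cases e <;> decide) hc
  obtain ⟨k, hk⟩ := exists_swap f hf
  have hcs : Commute (swapPerm k)⁻¹ (sigma ^ (bif e then 1 else 6)) :=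
    (Commute.pow_right (swap_comm k) _).inv_left
  obtain ⟨he, n, hn⟩ := eq_pow_of_keep (mul_mem (inv_mem (swap_mem k)) hτ) e
    (by rw [mul_assoc, hc, ← mul_assoc, hcs.eq, mul_assoc])
    (fun p => by
      have h := orb_swap k ((swapPerm k)⁻¹ (τ p))
      rw [← Equiv.Perm.mul_apply, mul_inv_cancel, Equiv.Perm.one_apply, ho, hk] at h
      rw [Equiv.Perm.mul_apply, ← (swap_facts k).2.2.2 (orb ((swapPerm k)⁻¹ (τ p))), ← h,
        (swap_facts k).2.2.2])
  exact ⟨he, k, n, by rw [← hn, mul_inv_cancel_left]⟩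

/-- A pattern on the pairs of orbits. -/
def v6 (v : Fin 3 → ZMod 2) : Fin 6 → ZMod 2 := fun a => v (Fin.ofNat 3 a.val)

theorem word_mem : ∀ v, spread (v6 v) ∈ golayCode := by
  have : ∀ v, codeChk (spread (v6 v)) = true := by decide +kernel
  exact fun v => codeChk_iff (this v)

/-- The monomial elements. -/
noncomputable def monoE (k : Fin 6) (v : Fin 3 → ZMod 2) : Co0 :=
  monoCo (swapPerm k) (swap_mem k) (spread (v6 v)) (word_mem v)

/-- Their effect on the fixed vectors. -/
def monoVec (k : Fin 6) (v : Fin 3 → ZMod 2) (r : Fin 6 → ℤ) : Fin 6 → ℤ :=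
  fun a => if v6 v a = 1 then -r (osi k a) else r (osi k a)

theorem monoE_smul (k : Fin 6) (v : Fin 3 → ZMod 2) {x : leechLattice} {r : Fin 6 → ℤ}
    (hx : (x : GolayPt → ℤ) = spread r) :
    ((monoE k v • x : leechLattice) : GolayPt → ℤ) = spread (monoVec k v r) := by
  funext q
  obtain ⟨p, rfl⟩ := (swapPerm k).surjective q
  rw [monoE, monoCo_smul, hx]
  have hm : swapPerm k p ∈ support₂ (spread (v6 v)) ↔ v6 v (osw k (orb p)) ≠ 0 := by
    rw [support₂, Finset.mem_filter]
    simp [spread, orb_swap]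
  simp only [signedPerm, hm, Equiv.symm_apply_apply, spread, monoVec, orb_swap, (swap_facts k).2.2.2]
  rcases zmod2_cases (v6 v (osw k (orb p))) with e | e <;> simp [e]

theorem monoE_comm (k : Fin 6) (v : Fin 3 → ZMod 2) : monoE k v * k0 = k0 * monoE k v := by
  refine co0_ext_pt8 fun i => ?_
  rw [mul_smul, mul_smul, k0_pt8, monoE, monoCo_smul_pt8, monoCo_smul_pt8]
  have e : swapPerm k (sigma i) = sigma (swapPerm k i) := Equiv.ext_iff.1 (swap_comm k) i
  rw [e, spread_sigma]
  split <;> simp [smul_neg', k0_pt8]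

/-- The centraliser of the element. -/
def cen : Subgroup Co0 := Subgroup.centralizer {k0}

theorem mem_cen_iff {c : Co0} : c ∈ cen ↔ c * k0 = k0 * c := Subgroup.mem_centralizer_singleton_iff

theorem fixed_smul (c : cen) {v : leechLattice} (hv : k0 • v = v) :
    k0 • ((c : Co0) • v) = (c : Co0) • v := by
  rw [← mul_smul, ← mem_cen_iff.1 c.2, mul_smul, hv]

/-- The action on the fixed classes. -/
noncomputable def act (c : cen) (s : Fin 6 → ZMod 2) : Fin 6 → ZMod 2 :=
  sig (((c : Co0) • repL s : leechLattice) : GolayPt → ℤ)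

theorem cong_act (c : cen) (s : Fin 6 → ZMod 2) : Cong ((c : Co0) • repL s) (repL (act c s)) :=
  cong_rep (fixed_smul c (k0_repL s))

theorem act_sig (c : cen) {v : leechLattice} (hv : k0 • v = v) :
    act c (sig (v : GolayPt → ℤ)) = sig (((c : Co0) • v : leechLattice) : GolayPt → ℤ) :=
  (sig_cong ((cong_rep hv).smul _)).symm

theorem act_add (c : cen) (s t : Fin 6 → ZMod 2) : act c (s + t) = act c s + act c t := by
  have h : sig ((repL s + repL t : leechLattice) : GolayPt → ℤ) = s + t := by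
    rw [AddSubgroup.coe_add, sig_add (repL s).2 (repL t).2, sig_repL, sig_repL]
  conv_lhs => rw [← h]
  rw [act_sig c (by rw [smul_add', k0_repL, k0_repL]), smul_add', AddSubgroup.coe_add,
    sig_add ((c : Co0) • repL s).2 ((c : Co0) • repL t).2]
  rfl

theorem act_mul (c d : cen) (s : Fin 6 → ZMod 2) : act (c * d) s = act c (act d s) := by
  rw [act, Subgroup.coe_mul, mul_smul, ← act_sig c (fixed_smul d (k0_repL s))]
  rfl

theorem act_one (s : Fin 6 → ZMod 2) : act 1 s = s := by
  rw [act, OneMemClass.coe_one, one_smul, sig_repL]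

theorem act_zero (c : cen) : act c 0 = 0 := by
  rw [act, repL_zero, smul_zero', ← repL_zero, sig_repL]

theorem act_ne_zero (c : cen) {s : Fin 6 → ZMod 2} (hs : s ≠ 0) : act c s ≠ 0 := fun h => hs (by
  rw [← act_one s, ← inv_mul_cancel c, act_mul, h, act_zero])

theorem norm_act (c : cen) {s : Fin 6 → ZMod 2} (hs : s ≠ 0) :
    sqNorm (rep (act c s)) = sqNorm (rep s) := by
  have hb : ∀ t, t ≠ 0 → sqNorm ((repL t : leechLattice) : GolayPt → ℤ) ≤ 64 := fun t ht => by
    rcases rep_checks.2.2.2.2 t ht with h | h | h <;>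
      exact le_of_eq_of_le h (by norm_num)
  have hne : ∀ t, t ≠ 0 → repL t ≠ 0 := fun t ht h => ht (by
    rw [← sig_repL t, h, ← repL_zero, sig_repL])
  have h := cong_norm_short (cong_act c s) ((sqNorm_smul _ _).trans_le (hb s hs))
    (hb _ (act_ne_zero c hs))
    (fun h0 => hne s hs (by rw [← inv_smul_smul (c : Co0) (repL s), h0, smul_zero']))
    (hne _ (act_ne_zero c hs))
  rw [sqNorm_smul] at h
  exact h.symm

end Cfsg.Agent.Lib.MonsterType.Held
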