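import Cfsg.Agent.Lib.MonsterType.Held.Points
import Cfsg.Agent.Lib.Leech.Order
import Cfsg.Agent.Lib.Leech.ModTwo
import Cfsg.Prelude.Def_MonsterType

/-!
The fixed vectors of the element of order 7, modulo twice the lattice.
-/

set_option autoImplicit false

namespace Cfsg.Agent.Lib.MonsterType.Held

open Cfsg
open Cfsg.Agent.Lib
open Cfsg.Agent.Lib.Leech

theorem cong_norm_short {v w : leechLattice} (h : Cong v w)
    (hv : sqNorm (v : GolayPt → ℤ) ≤ 64) (hw : sqNorm (w : GolayPt → ℤ) ≤ 64) (hv0 : v ≠ 0)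
    (hw0 : w ≠ 0) : sqNorm (v : GolayPt → ℤ) = sqNorm (w : GolayPt → ℤ) := by
  obtain ⟨x, hx⟩ := h
  have hd : (v : GolayPt → ℤ) - (w : GolayPt → ℤ) = (2 : ℕ) • (x : GolayPt → ℤ) := by
    rw [hx, AddSubgroup.coe_add, AddSubgroup.coe_add, two_nsmul]; abel
  by_cases e : (v : GolayPt → ℤ) = (w : GolayPt → ℤ)
  · rw [e]
  rcases short_congr w.2 e hv hw ⟨_, x.2, hd⟩ with r | ⟨r, r', -⟩
  · rw [r, Leech.sqNorm_neg]
  · rw [r, r']

/-- The permutation as an automorphism of the lattice. -/
noncomputable def k0 : Co0 := monoCo sigma sigma_mem 0 (zero_mem _)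

theorem k0_smul (v : leechLattice) (p : GolayPt) :
    ((k0 • v : leechLattice) : GolayPt → ℤ) (sigma p) = (v : GolayPt → ℤ) p := by
  rw [k0, monoCo_smul]
  simp [signedPerm, support₂]

/-- A vector listed by its values on the six orbits. -/
def six (l : List ℤ) : Fin 6 → ℤ := fun k => l.getD k.val 0

/-- The generators of the fixed lattice. -/
def gen (i : Fin 10) : Fin 6 → ℤ := six (Data.gens.getD i.val [])

/-- The probes. -/
def probe (k : Fin 6) : GolayPt → ℤ := spread (six (Data.probes.getD k.val []))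

/-- The values of a vector on the probes, modulo 2. -/
def sig (x : GolayPt → ℤ) : Fin 6 → ZMod 2 := fun k => ((dotInt x (probe k) / 8 : ℤ) : ZMod 2)

/-- The index of a tuple of values. -/
def sigIdx (s : Fin 6 → ZMod 2) : ℕ := ∑ k : Fin 6, (s k).val * 2 ^ k.val

/-- The representative with given values. -/
def rep (s : Fin 6 → ZMod 2) : GolayPt → ℤ := spread (six (Data.reps.getD (sigIdx s) []))

/-- Congruence test. -/
def congChk (x y : GolayPt → ℤ) : Bool :=
  decide (∀ i, (x i - y i) % 2 = 0) && leechChk fun i => (x i - y i) / 2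

set_option maxHeartbeats 1000000 in
theorem rep_checks : (∀ s, leechChk (rep s) = true ∧ sig (rep s) = s) ∧
    (∀ k, leechChk (probe k) = true) ∧ (∀ i, leechChk (spread (gen i)) = true) ∧ rep 0 = 0 ∧
    (∀ s : Fin 6 → ZMod 2, s ≠ 0 →
      sqNorm (rep s) = 32 ∨ sqNorm (rep s) = 48 ∨ sqNorm (rep s) = 64) := by
  decide +kernel

set_option maxHeartbeats 1000000 in
theorem add_checks : ∀ i s, congChk (spread (gen i) + rep s) (rep (sig (spread (gen i)) + s)) = true := by
  decide +kernel

/-- The representative as a lattice vector. -/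
def repL (s : Fin 6 → ZMod 2) : leechLattice := ⟨rep s, leechChk_sound (rep_checks.1 s).1⟩

theorem k0_repL (s : Fin 6 → ZMod 2) : k0 • repL s = repL s := by
  refine Subtype.ext (funext fun p => ?_)
  obtain ⟨q, rfl⟩ := sigma.surjective p
  rw [k0_smul]
  show rep s q = rep s (sigma q)
  rw [rep, spread_sigma]

theorem cong_of_chk {v w : leechLattice}
    (h : congChk (v : GolayPt → ℤ) (w : GolayPt → ℤ) = true) : Cong v w := by
  simp only [congChk, Bool.and_eq_true, decide_eq_true_eq] at h
  refine ⟨⟨_, leechChk_sound h.2⟩, Subtype.ext (funext fun i => ?_)⟩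
  simp only [AddSubgroup.coe_add, Pi.add_apply]
  have := h.1 i
  omega

theorem sig_add {x y : GolayPt → ℤ} (hx : x ∈ leechLattice) (hy : y ∈ leechLattice) :
    sig (x + y) = sig x + sig y := by
  funext k
  have hp := leechChk_sound (rep_checks.2.1 k)
  obtain ⟨a, ha⟩ := Leech.dotInt_dvd hx hp
  obtain ⟨b, hb⟩ := Leech.dotInt_dvd hy hp
  simp only [sig, Pi.add_apply]
  rw [dotInt_add_left, ha, hb, ← Int.cast_add]
  congr 1
  omega

theorem sig_cong {v w : leechLattice} (h : Cong v w) :
    sig (v : GolayPt → ℤ) = sig (w : GolayPt → ℤ) := by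
  obtain ⟨x, rfl⟩ := h
  rw [AddSubgroup.coe_add, AddSubgroup.coe_add, sig_add w.2 (add_mem x.2 x.2), sig_add x.2 x.2]
  funext k
  simp only [Pi.add_apply]
  rw [CharTwo.add_self_eq_zero, add_zero]

theorem repL_zero : repL 0 = 0 := Subtype.ext rep_checks.2.2.2.1

/-- Halved, modulo 2. -/
def hwb (a : ℤ) : ZMod 2 := ((a / 2 : ℤ) : ZMod 2)

theorem hwb_spread (w : Fin 6 → ℤ) : spread (fun k => hwb (w k)) = hw (spread w) := rfl

theorem hwb_eq_iff {a b : ℤ} : hwb a = hwb b ↔ a / 2 % 2 = b / 2 % 2 := by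
  rw [hwb, hwb, ZMod.intCast_eq_intCast_iff']
  rfl

theorem sum_spread (u : Fin 6 → ℤ) :
    (∑ p, spread u p) = u 0 + u 1 + u 2 + 7 * u 3 + 7 * u 4 + 7 * u 5 := by
  rw [← Finset.sum_fiberwise Finset.univ orb (spread u)]
  have hc : ∀ k : Fin 6, (Finset.univ.filter fun p => orb p = k).card = if k < 3 then 1 else 7 := by
    decide +kernel
  have : ∀ k : Fin 6, ∑ p ∈ Finset.univ.filter (fun p => orb p = k), spread u p =
      ((if k < 3 then 1 else 7 : ℕ) : ℤ) * u k := by
    intro k
    rw [Finset.sum_congr rfl (fun p hp => show spread u p = u k by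
      rw [spread, (Finset.mem_filter.1 hp).2]), Finset.sum_const, hc, nsmul_eq_mul]
  rw [Finset.sum_congr rfl (fun k _ => this k)]
  simp [Fin.sum_univ_six]

theorem mem_closure_gen {v : Fin 6 → ℤ} (hv : spread v ∈ leechLattice) :
    v ∈ AddSubgroup.closure (Set.range gen) := by
  set P := AddSubgroup.closure (Set.range gen)
  have hg : ∀ i, gen i ∈ P := fun i => AddSubgroup.subset_closure ⟨i, rfl⟩
  have hbase : ∀ k, spread v (base k) = v k := fun k => by rw [spread, orb_facts.2.1]
  have heven : ∀ w : Fin 6 → ℤ, spread w ∈ leechLattice → (∀ k, w k % 2 = 0) → w ∈ P := by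
    intro w hw h0
    rcases mem_leech_iff.1 hw with ⟨-, hsum, hc⟩ | ⟨hodd, -, -⟩
    · have hc' : spread (fun k => hwb (w k)) ∈ golayCode := by
        rw [hwb_spread]; exact hc
      have hp := word_pair hc'
      have p0 : hwb (w 0) = hwb (w 3) := hp 0
      have p1 : hwb (w 1) = hwb (w 4) := hp 1
      have p2 : hwb (w 2) = hwb (w 5) := hp 2
      set u : Fin 6 → ℤ := w - ((w 0 / 2 % 2) • gen 0 + (w 2 / 2 % 2) • gen 1 + (w 1 / 2 % 2) • gen 2)
        with hu
      have hu4 : ∀ k, u k % 4 = 0 := by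
        intro k
        have e0 := h0 0; have e1 := h0 1; have e2 := h0 2
        have e3 := h0 3; have e4 := h0 4; have e5 := h0 5
        have q0 := hwb_eq_iff.1 p0; have q1 := hwb_eq_iff.1 p1; have q2 := hwb_eq_iff.1 p2
        fin_cases k <;> simp [hu, gen, six, Data.gens] <;> omega
      have hum : spread u ∈ leechLattice := by
        have : spread u = spread w - ((w 0 / 2 % 2) • spread (gen 0) + (w 2 / 2 % 2) • spread (gen 1) +
            (w 1 / 2 % 2) • spread (gen 2)) := rfl
        rw [this]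
        exact sub_mem hw (add_mem (add_mem
          (zsmul_mem (leechChk_sound (rep_checks.2.2.1 0)) _)
          (zsmul_mem (leechChk_sound (rep_checks.2.2.1 1)) _))
          (zsmul_mem (leechChk_sound (rep_checks.2.2.1 2)) _))
      have hus : (∑ p, spread u p) % 8 = 0 := by
        rcases mem_leech_iff.1 hum with ⟨-, hs, -⟩ | ⟨ho, -, -⟩
        · exact hs
        · have := ho none
          have := hu4 (orb none)
          simp only [spread] at *
          omega
      have hsum6 : (∑ p, spread u p) = u 0 + u 1 + u 2 + 7 * u 3 + 7 * u 4 + 7 * u 5 := sum_spread u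
      rw [hsum6] at hus
      have e0 := hu4 0; have e1 := hu4 1; have e2 := hu4 2
      have e3 := hu4 3; have e4 := hu4 4; have e5 := hu4 5
      have hu' : u = (u 0 / 4) • gen 3 + (u 1 / 4) • gen 4 + (u 3 / 4) • gen 5 + (u 4 / 4) • gen 6 +
          (u 5 / 4) • gen 7 +
          ((u 2 / 4 - u 0 / 4 - u 1 / 4 - u 3 / 4 - u 4 / 4 - u 5 / 4) / 2) • gen 8 := by
        funext k
        fin_cases k <;> simp [gen, six, Data.gens] <;> omega
      have huP : u ∈ P := by
        rw [hu']
        exact add_mem (add_mem (add_mem (add_mem (add_mem (zsmul_mem (hg 3) _) (zsmul_mem (hg 4) _))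
          (zsmul_mem (hg 5) _)) (zsmul_mem (hg 6) _)) (zsmul_mem (hg 7) _)) (zsmul_mem (hg 8) _)
      have := add_mem huP (add_mem (add_mem (zsmul_mem (hg 0) (w 0 / 2 % 2))
        (zsmul_mem (hg 1) (w 2 / 2 % 2))) (zsmul_mem (hg 2) (w 1 / 2 % 2)))
      rw [hu, sub_add_cancel] at this
      exact this
    · have := hodd none
      have := h0 (orb none)
      simp only [spread] at *
      omega
  rcases mem_leech_iff.1 hv with ⟨h, -, -⟩ | ⟨h, -, -⟩
  · exact heven v hv fun k => by rw [← hbase]; exact h _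
  · have := heven (v - gen 9)
      (show spread v - spread (gen 9) ∈ leechLattice from sub_mem hv (leechChk_sound (rep_checks.2.2.1 9)))
      (fun k => by
        have h' := h (base k)
        rw [hbase] at h'
        fin_cases k <;> simp [gen, six, Data.gens] at h' ⊢ <;> omega)
    simpa using add_mem this (hg 9)

/-- A fixed vector is congruent to the representative with its values. -/
theorem cong_rep {v : leechLattice} (hv : k0 • v = v) : Cong v (repL (sig (v : GolayPt → ℤ))) := by
  have hsp : (v : GolayPt → ℤ) = spread fun k => (v : GolayPt → ℤ) (base k) :=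
    eq_spread _ fun p => by conv_lhs => rw [← hv, k0_smul]
  let P : AddSubgroup (Fin 6 → ℤ) :=
    { carrier := {x | ∃ h : spread x ∈ leechLattice, ∀ s,
        Cong ((⟨_, h⟩ : leechLattice) + repL s) (repL (sig (spread x) + s))}
      add_mem' := by
        rintro a b ⟨ha, ca⟩ ⟨hb, cb⟩
        refine ⟨add_mem ha hb, fun s => ?_⟩
        obtain ⟨x, hx⟩ := cb s
        obtain ⟨y, hy⟩ := ca (sig (spread b) + s)
        refine ⟨x + y, ?_⟩
        rw [show (⟨spread (a + b), add_mem ha hb⟩ : leechLattice) = ⟨_, ha⟩ + ⟨_, hb⟩ from rfl,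
          show sig (spread (a + b)) = sig (spread a) + sig (spread b) from sig_add ha hb,
          add_assoc (sig (spread a)), add_assoc, hx, ← add_assoc, hy]
        abel
      zero_mem' := by
        refine ⟨zero_mem _, fun s => ?_⟩
        rw [show (⟨spread (0 : Fin 6 → ℤ), zero_mem _⟩ : leechLattice) = 0 from rfl,
          show sig (spread (0 : Fin 6 → ℤ)) = 0 from by funext k; simp [sig, spread, dotInt], zero_add,
          zero_add]
        exact cong_refl _
      neg_mem' := by
        rintro a ⟨ha, ca⟩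
        refine ⟨neg_mem ha, fun s => ?_⟩
        have e : sig (spread (-a)) = sig (spread a) := by
          have h0 := sig_cong (cong_neg (⟨_, ha⟩ : leechLattice))
          exact h0
        rw [e, show (⟨spread (-a), neg_mem ha⟩ : leechLattice) = -⟨_, ha⟩ from rfl]
        obtain ⟨x, hx⟩ := ca s
        refine ⟨x - ⟨_, ha⟩, ?_⟩
        have hr : repL s = repL (sig (spread a) + s) + (x + x) - ⟨_, ha⟩ := by rw [← hx]; abel
        rw [hr]
        abel }
  have hle : AddSubgroup.closure (Set.range gen) ≤ P := by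
    refine (AddSubgroup.closure_le _).2 ?_
    rintro _ ⟨i, rfl⟩
    exact ⟨leechChk_sound (rep_checks.2.2.1 i), fun s => cong_of_chk (add_checks i s)⟩
  obtain ⟨h, hall⟩ := hle (mem_closure_gen (v := fun k => (v : GolayPt → ℤ) (base k)) (hsp ▸ v.2))
  have := hall 0
  rw [repL_zero, add_zero, add_zero] at this
  convert this using 3

theorem sig_repL (s : Fin 6 → ZMod 2) : sig (repL s : GolayPt → ℤ) = s := (rep_checks.1 s).2

theorem cong_of_sig {v w : leechLattice} (hv : k0 • v = v) (hw : k0 • w = w)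
    (h : sig (v : GolayPt → ℤ) = sig (w : GolayPt → ℤ)) : Cong v w :=
  (cong_rep hv).trans (h ▸ (cong_rep hw).symm)

end Cfsg.Agent.Lib.MonsterType.Held
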