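import Mathlib.Init

/-!
A frame of the lattice preserved by the inverting element.
-/

set_option autoImplicit false

namespace Cfsg.Agent.Lib.MonsterType.Held.Data

/-- The frame. -/
def frameJ : List (List Int) :=
  [[0, 0, 2, 0, 0, 0, 0, 4, 0, 2, 0, -2, 2, 0, 2, 0, 0, 0, -2, -2, 0, 0, -2, 4],
   [0, 0, 2, 0, 0, 0, 0, 0, 0, -2, 0, 2, -2, 4, 2, 0, 0, 4, 2, -2, 0, 0, -2, 0],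
   [0, 0, 2, 0, 0, 0, 0, 0, 0, -2, 0, 2, -2, -4, 2, 0, 0, -4, 2, -2, 0, 0, -2, 0],
   [0, 0, 2, 0, 0, 0, 0, 0, 4, 2, 0, 2, -2, 0, -2, 4, 0, 0, -2, -2, 0, 0, 2, 0],
   [0, 0, 2, 0, 0, 0, 0, 0, -4, 2, 0, 2, -2, 0, -2, -4, 0, 0, -2, -2, 0, 0, 2, 0],
   [0, 0, 2, 0, 0, 0, 0, 0, 0, -2, -4, -2, 2, 0, -2, 0, 0, 0, 2, -2, -4, 0, 2, 0],
   [0, 0, 2, 0, 0, 0, 0, 0, 0, -2, 4, -2, 2, 0, -2, 0, 0, 0, 2, -2, 4, 0, 2, 0],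
   [4, 0, 2, 0, 0, -4, 0, 0, 0, 2, 0, 2, 2, 0, -2, 0, 0, 0, 2, 2, 0, 0, -2, 0],
   [4, 0, -2, 0, 0, -4, 0, 0, 0, -2, 0, -2, -2, 0, 2, 0, 0, 0, -2, -2, 0, 0, 2, 0],
   [0, 0, 2, 0, 0, 0, -4, 0, 0, -2, 0, -2, -2, 0, -2, 0, 4, 0, -2, 2, 0, 0, -2, 0],
   [0, 0, 2, 0, 0, 0, 4, 0, 0, -2, 0, -2, -2, 0, -2, 0, -4, 0, -2, 2, 0, 0, -2, 0],
   [0, 0, 2, 4, 0, 0, 0, 0, 0, -2, 0, 2, 2, 0, 2, 0, 0, 0, -2, 2, 0, -4, 2, 0],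
   [0, 0, 2, -4, 0, 0, 0, 0, 0, -2, 0, 2, 2, 0, 2, 0, 0, 0, -2, 2, 0, 4, 2, 0],
   [0, 4, -2, 0, -4, 0, 0, 0, 0, -2, 0, 2, 2, 0, -2, 0, 0, 0, -2, -2, 0, 0, -2, 0],
   [0, 4, 2, 0, -4, 0, 0, 0, 0, 2, 0, -2, -2, 0, 2, 0, 0, 0, 2, 2, 0, 0, 2, 0],
   [2, -2, 0, 2, -2, 2, -2, 2, -2, 0, -2, 0, 0, 2, 0, 2, -2, -2, 0, 0, 2, 2, 0, -2],
   [2, -2, 0, 2, -2, 2, -2, -2, 2, 0, 2, 0, 0, -2, 0, -2, -2, 2, 0, 0, -2, 2, 0, 2],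
   [2, 2, 0, -2, 2, 2, -2, -2, -2, 0, -2, 0, 0, -2, 0, 2, -2, 2, 0, 0, 2, -2, 0, 2],
   [2, 2, 0, -2, 2, 2, -2, 2, 2, 0, 2, 0, 0, 2, 0, -2, -2, -2, 0, 0, -2, -2, 0, -2],
   [2, 2, 0, 2, 2, 2, 2, -2, -2, 0, 2, 0, 0, 2, 0, 2, 2, -2, 0, 0, -2, 2, 0, 2],
   [2, 2, 0, 2, 2, 2, 2, 2, 2, 0, -2, 0, 0, -2, 0, -2, 2, 2, 0, 0, 2, 2, 0, -2],
   [2, -2, 0, -2, -2, 2, 2, 2, -2, 0, 2, 0, 0, -2, 0, 2, 2, 2, 0, 0, -2, -2, 0, -2],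
   [2, -2, 0, -2, -2, 2, 2, -2, 2, 0, -2, 0, 0, 2, 0, -2, 2, -2, 0, 0, 2, -2, 0, 2],
   [0, 0, 2, 0, 0, 0, 0, -4, 0, 2, 0, -2, 2, 0, 2, 0, 0, 0, -2, -2, 0, 0, -2, -4]]

end Cfsg.Agent.Lib.MonsterType.Held.Data
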