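import Cfsg.Agent.Lib.MonsterType.Held.Act

/-!
The joint centraliser of two orthogonal central involutions has 7-part 7; automorphisms of the group
generated by the element of order 7; fusion of the elements of type 64 centralised by `b`.
-/

set_option autoImplicit false

namespace Cfsg.Agent.Lib.MonsterType.Held

open Cfsg
open Cfsg.Agent.Lib
open Cfsg.Agent.Lib.Leech
open Cfsg.Agent.Lib.LargeExtra

local notation "mk₁" => QuotientGroup.mk' (Subgroup.center Co0)

theorem card_map_crossStab : Nat.card (crossStab.map mk₁) = 7 * (2 ^ 21 * 3 ^ 3 * 5 * 11 * 23) := by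
  haveI := finite_co0
  let f : crossStab →* Spor.Co1 := (mk₁).comp crossStab.subtype
  have hr : f.range = crossStab.map mk₁ := by rw [MonoidHom.range_comp, Subgroup.range_subtype]
  have hk : f.ker = (Subgroup.center Co0).subgroupOf crossStab := by
    ext x; simp [Subgroup.mem_subgroupOf, f]
  have h := f.ker.card_mul_index
  rw [Subgroup.index_ker, hr, hk,
    Nat.card_congr (Subgroup.subgroupOfEquivOfLe (center_le_signs.trans signs_le)).toEquiv,
    card_center, card_crossStab] at h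
  generalize Nat.card ↥(crossStab.map mk₁) = N at h ⊢
  norm_num at h ⊢
  omega

theorem factorization_seven_mul {m : ℕ} (hm : ¬ 7 ∣ m) : (7 * m).factorization 7 = 1 := by
  have h7 : Nat.Prime 7 := by norm_num
  rw [Nat.factorization_mul (by norm_num) (by rintro rfl; exact hm (dvd_zero 7)), Finsupp.add_apply,
    h7.factorization_self, Nat.factorization_eq_zero_of_not_dvd hm]

section

variable {G : Type*} [Group G] [Finite G] {z : G} {R : Subgroup G} (D : MData z R)

/-- The joint centraliser with an element of type 64 has 7-part 7. -/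
theorem factorization_joint (hne : ∃ g : G, g * z * g⁻¹ ∈ R ∧ g * z * g⁻¹ ≠ z) {y : G}
    (hy : y ∈ D.typeSet 64) :
    (Nat.card ↥(Subgroup.centralizer ({z} : Set G) ⊓ Subgroup.centralizer ({y} : Set G))).factorization 7
      = 1 := by
  obtain ⟨g₀, hl⟩ := exists_recoord D hy
  obtain ⟨hc, hyz⟩ := (isConj_iff_type64 D hne (D.typeSet_subset _ hy)).2 hy
  obtain ⟨g, rfl⟩ := _root_.isConj_iff.1 hc
  have S := setting_of_conj D.good (D.typeSet_subset _ hy) hyz
  have hmap := map_fix (D.recoord g₀) S hl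
  set X := Subgroup.centralizer ({z} : Set G) ⊓ Subgroup.centralizer ({g * z * g⁻¹} : Set G) with hX
  let f : X.subgroupOf (Subgroup.centralizer ({z} : Set G)) →* Spor.Co1 :=
    (D.recoord g₀).π.comp (X.subgroupOf (Subgroup.centralizer ({z} : Set G))).subtype
  have hr : f.range = crossStab.map mk₁ := by
    rw [MonoidHom.range_comp, Subgroup.range_subtype]
    exact hmap
  have h := f.ker.card_mul_index
  rw [Subgroup.index_ker, hr, card_map_crossStab,
    Nat.card_congr (Subgroup.subgroupOfEquivOfLe (H := X) inf_le_left).toEquiv] at h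
  have hd : Nat.card f.ker ∣ 2 ^ 25 := by
    rw [← D.card]
    let ι : f.ker →* R :=
      { toFun := fun x => ⟨x.1.1.1, ((D.recoord g₀).π_eq_one x.1.1).1 x.2⟩
        map_one' := rfl
        map_mul' := fun _ _ => rfl }
    exact Subgroup.card_dvd_of_injective ι fun a b e =>
      Subtype.ext (Subtype.ext (Subtype.ext (congrArg Subtype.val e :)))
  obtain ⟨j, -, hj⟩ := (Nat.dvd_prime_pow Nat.prime_two).1 hd
  rw [← h, hj, mul_left_comm]
  refine factorization_seven_mul fun hdvd => ?_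
  have h7 : Nat.Prime 7 := by norm_num
  rcases (Nat.Prime.dvd_mul h7).1 hdvd with r | r
  · exact absurd ((Nat.prime_dvd_prime_iff_eq h7 Nat.prime_two).1 (h7.dvd_of_dvd_pow r)) (by norm_num)
  · norm_num at r

end

/-- The permutation inducing squaring. -/
noncomputable def sq2 : Equiv.Perm GolayPt := Golay.toPerm Data.sqList

theorem sq2_twist : ∀ p, Golay.listFun Data.sqList (sigmaF p) = sigmaF (sigmaF (Golay.listFun Data.sqList p)) := by
  decide +kernel

theorem sq2_mem : sq2 ∈ M24 := Golay.toPerm_mem_M24 sigma_ok.2.1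

/-- The automorphism squaring the element. -/
noncomputable def sqCo : Co0 := monoCo sq2 sq2_mem 0 (zero_mem _)

theorem sqCo_conj : sqCo * k0 * sqCo⁻¹ = k0 ^ 2 := by
  rw [mul_inv_eq_iff_eq_mul, k0_pow, k0, sqCo, monoCo_mul, monoCo_mul]
  refine co0_ext_pt8 fun i => ?_
  rw [monoCo_smul_pt8, monoCo_smul_pt8]
  have e : sq2 (sigma i) = (sigma ^ 2) (sq2 i) := by
    rw [sigma_apply, sigma_pow_apply, sq2, Golay.toPerm_apply (Golay.inM24.valid sigma_ok.2.1),
      Golay.toPerm_apply (Golay.inM24.valid sigma_ok.2.1)]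
    exact sq2_twist i
  simp [e]

/-- The exponents realised by automorphisms. -/
def Norm (n : ℕ) : Prop := ∃ k : Co0, k * k0 * k⁻¹ = k0 ^ n

theorem Norm.mul {a b : ℕ} : Norm a → Norm b → Norm (a * b) := by
  rintro ⟨k, hk⟩ ⟨l, hl⟩
  refine ⟨k * l, ?_⟩
  rw [pow_mul, ← hk, conj_pow, ← hl]
  group

theorem Norm.mod {a : ℕ} : Norm a → Norm (a % 7) := by
  rintro ⟨k, hk⟩
  refine ⟨k, ?_⟩
  rw [hk]
  conv_lhs => rw [← Nat.mod_add_div a 7, pow_add, pow_mul, k0_pow_seven, one_pow, mul_one]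

theorem norm_all {n : ℕ} (h0 : 0 < n) (h7 : n < 7) : Norm n := by
  have n2 : Norm 2 := ⟨_, sqCo_conj⟩
  have n6 : Norm 6 := by
    refine ⟨jCo, ?_⟩
    have h6 : k0 ^ 6 = k0⁻¹ := eq_inv_of_mul_eq_one_left (by rw [← pow_succ, k0_pow_seven])
    rw [h6]
    conv_lhs => arg 1; arg 1; rw [← jCo_conj]
    calc k0 * jCo * k0 * k0 * jCo⁻¹ = k0⁻¹ * (k0 * (k0 * jCo * k0) * k0) * jCo⁻¹ := by group
      _ = k0⁻¹ := by rw [jCo_conj, jCo_conj, mul_inv_cancel_right]
  interval_cases n
  exacts [(n2.mul n2).mul n2 |>.mod, n2, (n6.mul (n2.mul n2)).mod, n2.mul n2, (n6.mul n2).mod, n6]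

section

variable {G : Type*} [Group G] [Finite G] {z : G} {R : Subgroup G} (D : MData z R)
  {b : ↥(Subgroup.centralizer ({z} : Set G))} (hbp : b ^ 7 = 1) (hπ : D.π b = QuotientGroup.mk k0)

include hbp hπ

/-- An element of type 64 commuting with `b` is conjugate to `z` by an element commuting with `b`. -/
theorem exists_conj_fix (hne : ∃ g : G, g * z * g⁻¹ ∈ R ∧ g * z * g⁻¹ ≠ z) {x : G}
    (hx : x ∈ D.typeSet 64) (hxb : x * (b : G) = b * x) :
    ∃ h : G, h * (b : G) = b * h ∧ h * z * h⁻¹ = x := by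
  haveI : Fact (Nat.Prime 7) := ⟨by norm_num⟩
  have hxR := D.typeSet_subset _ hx
  obtain ⟨hc, hxz⟩ := (isConj_iff_type64 D hne hxR).2 hx
  obtain ⟨g, rfl⟩ := _root_.isConj_iff.1 hc
  have S := setting_of_conj D.good hxR hxz
  have hy : g⁻¹ * z * g ∈ D.typeSet 64 := by
    refine (isConj_iff_type64 D hne ((S.transport g rfl z).1 S.hz)).1
      ⟨_root_.isConj_iff.2 ⟨g⁻¹, by group⟩, fun e => hxz ?_⟩
    conv_lhs => rw [← e]
    group
  obtain ⟨c, hc, hcx⟩ := D.type_transitive (Or.inr (Or.inr rfl)) hx hy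
  have hcz : c * z = z * c := Subgroup.mem_centralizer_singleton_iff.1 hc
  have hbz : (b : G) * z = z * b := Subgroup.mem_centralizer_singleton_iff.1 b.2
  set y := g⁻¹ * z * g with hydef
  have hmem1 : c * (b : G) * c⁻¹ ∈
      Subgroup.centralizer ({z} : Set G) ⊓ Subgroup.centralizer ({y} : Set G) := by
    refine Subgroup.mem_inf.2 ⟨mul_mem (mul_mem hc b.2) (inv_mem hc), Subgroup.mem_centralizer_singleton_iff.2 ?_⟩
    rw [← hcx]
    calc c * (b : G) * c⁻¹ * (c * (g * z * g⁻¹) * c⁻¹) = c * ((b : G) * (g * z * g⁻¹)) * c⁻¹ := by group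
      _ = c * (g * z * g⁻¹ * b) * c⁻¹ := by rw [hxb]
      _ = _ := by group
  have hmem2 : g⁻¹ * (b : G) * g ∈
      Subgroup.centralizer ({z} : Set G) ⊓ Subgroup.centralizer ({y} : Set G) := by
    refine ⟨Subgroup.mem_centralizer_singleton_iff.2 ?_, Subgroup.mem_centralizer_singleton_iff.2 ?_⟩
    · calc g⁻¹ * (b : G) * g * z = g⁻¹ * ((b : G) * (g * z * g⁻¹)) * g := by group
        _ = g⁻¹ * (g * z * g⁻¹ * b) * g := by rw [hxb]
        _ = _ := by group
    · calc g⁻¹ * (b : G) * g * y = g⁻¹ * ((b : G) * z) * g := by rw [hydef]; group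
        _ = g⁻¹ * (z * b) * g := by rw [hbz]
        _ = _ := by rw [hydef]; group
  have hbo : orderOf (b : G) = 7 :=
    (orderOf_injective (Subgroup.centralizer ({z} : Set G)).subtype Subtype.val_injective b).trans
      (orderOf_b D (by norm_num) hbp hπ mk_k0_ne_one)
  obtain ⟨d, hd, i, hi⟩ := exists_conj_pow (factorization_joint D hne hy) hmem1 hmem2
    ((orderOf_injective (MulAut.conj c).toMonoidHom (MulAut.conj c).injective (b : G)).trans hbo)
    (((congrArg orderOf (by simp : g⁻¹ * (b : G) * g = MulAut.conj g⁻¹ (b : G))).trans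
      (orderOf_injective (MulAut.conj g⁻¹).toMonoidHom (MulAut.conj g⁻¹).injective (b : G))).trans hbo)
  have hdz : d * z = z * d := Subgroup.mem_centralizer_singleton_iff.1 hd.1
  set h0 := g * d * c with hh0
  have h0b : h0 * (b : G) * h0⁻¹ = (b : G) ^ i := by
    calc h0 * (b : G) * h0⁻¹ = g * (d * (c * b * c⁻¹) * d⁻¹) * g⁻¹ := by rw [hh0]; group
      _ = g * (g⁻¹ * b * g) ^ i * g⁻¹ := by rw [hi]
      _ = (g * (g⁻¹ * b * g) * g⁻¹) ^ i := conj_pow.symm
      _ = (b : G) ^ i := by congr 1; group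
  have h0z : h0 * z * h0⁻¹ = g * z * g⁻¹ := by
    calc h0 * z * h0⁻¹ = g * (d * (c * z) * c⁻¹ * d⁻¹) * g⁻¹ := by rw [hh0]; group
      _ = g * (d * (z * c) * c⁻¹ * d⁻¹) * g⁻¹ := by rw [hcz]
      _ = g * ((d * z) * d⁻¹) * g⁻¹ := by group
      _ = g * z * g⁻¹ := by rw [hdz, mul_inv_cancel_right]
  have hi7 : i % 7 ≠ 0 := fun e => by
    have hb1 : (b : G) ^ i = 1 := by
      rw [← Nat.mod_add_div i 7, e, zero_add, pow_mul, coe_pow_eq_one hbp, one_pow]
    rw [hb1] at h0b
    have : (b : G) = 1 := by simpa using h0b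
    rw [this, orderOf_one] at hbo
    norm_num at hbo
  obtain ⟨m, hm0, hm7, hm⟩ : ∃ m, 0 < m ∧ m < 7 ∧ i * m % 7 = 1 := by
    rcases (by omega : i % 7 = 1 ∨ i % 7 = 2 ∨ i % 7 = 3 ∨ i % 7 = 4 ∨ i % 7 = 5 ∨ i % 7 = 6) with
      r | r | r | r | r | r
    exacts [⟨1, by omega⟩, ⟨4, by omega⟩, ⟨5, by omega⟩, ⟨2, by omega⟩, ⟨3, by omega⟩, ⟨6, by omega⟩]
  obtain ⟨k, hk⟩ := norm_all hm0 hm7
  obtain ⟨e, -, he⟩ := exists_lift D (by norm_num : (7 : ℕ) ≠ 2) hbp hπ mk_k0_ne_one
    (fun hd => by have := Nat.le_of_dvd hm0 hd; omega) hk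
  have he' : (e : G) * (b : G) * (e : G)⁻¹ = (b : G) ^ m := by simpa using congrArg Subtype.val he
  refine ⟨h0 * e, mul_inv_eq_iff_eq_mul.1 ?_, ?_⟩
  · calc h0 * (e : G) * (b : G) * (h0 * e)⁻¹ = h0 * ((e : G) * b * (e : G)⁻¹) * h0⁻¹ := by group
      _ = (h0 * (b : G) * h0⁻¹) ^ m := by rw [he', conj_pow]
      _ = (b : G) := by
        rw [h0b, ← pow_mul, ← Nat.mod_add_div (i * m) 7, hm, pow_add, pow_one, pow_mul,
          coe_pow_eq_one hbp, one_pow, mul_one]
  · calc h0 * (e : G) * z * (h0 * e)⁻¹ = h0 * ((e : G) * z * (e : G)⁻¹) * h0⁻¹ := by group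
      _ = g * z * g⁻¹ := by
        rw [(Subgroup.mem_centralizer_singleton_iff.1 e.2 : (e : G) * z = z * e), mul_inv_cancel_right, h0z]

end

end Cfsg.Agent.Lib.MonsterType.Held
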