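import Cfsg.Agent.Lib.MonsterType.Held.Type
import Cfsg.Agent.Lib.Components.GenFitting

/-!
The centraliser of `b` in `R` lies in the layer of the centraliser of `b`.
-/

set_option autoImplicit false

namespace Cfsg.Agent.Lib.MonsterType.Held

open Cfsg
open Cfsg.Agent.Lib
open Cfsg.Agent.Lib.Leech
open Cfsg.Agent.Lib.LargeExtra

/-- Every class is a sum of two classes of norm 64 or zero. -/
theorem classes64_span : ∀ s : Fin 6 → ZMod 2, ∃ a ∈ insert 0 classes64, ∃ c ∈ insert 0 classes64, a + c = s := by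
  decide +kernel

section

variable {G : Type*} [Group G] [Finite G] {z : G} {R : Subgroup G} (D : MData z R)
  {b : ↥(Subgroup.centralizer ({z} : Set G))} (hbp : b ^ 7 = 1) (hπ : D.π b = QuotientGroup.mk k0)
  (hne : ∃ g : G, g * z * g⁻¹ ∈ R ∧ g * z * g⁻¹ ≠ z)

local notation "HH" => Subgroup.centralizer (Subgroup.zpowers (b : G) : Set G)
local notation "BB" => Subgroup.subgroupOf (Subgroup.zpowers (b : G)) (Subgroup.centralizer (Subgroup.zpowers (b : G) : Set G))

theorem mem_H {g : G} (h : g * (b : G) = b * g) : g ∈ HH :=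
  OddQuot.mem_centralizer_zpowers.2 h

omit [Finite G] in
theorem BB_central : BB ≤ Subgroup.center HH := by
  intro x hx
  obtain ⟨i, hi⟩ := Subgroup.mem_zpowers_iff.1 (Subgroup.mem_subgroupOf.1 hx)
  refine Subgroup.mem_center_iff.2 fun h => Subtype.ext ?_
  show (h : G) * x = x * h
  rw [← hi]
  exact Commute.zpow_right (OddQuot.mem_centralizer_zpowers.1 h.2) i

include D hbp hπ

theorem b_zpow_mem_R {i : ℤ} (h : (b : G) ^ i ∈ R) : (b : G) ^ i = 1 := by
  haveI : Fact (Nat.Prime 7) := ⟨by norm_num⟩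
  exact eq_one_of_pow_eq_one D (by norm_num : (7 : ℕ) ≠ 2) h (by
    rw [← zpow_natCast, ← zpow_mul, mul_comm, zpow_mul, zpow_natCast, coe_pow_eq_one hbp, one_zpow])

/-- A normal subgroup of the joint centraliser avoiding `z` lies in `⟨b⟩`. -/
theorem cz_normal_le {M : Subgroup (cz z (b : G))} [M.Normal] (hz : ⟨z, z_mem_cz D⟩ ∉ M)
    {m : cz z (b : G)} (hm : m ∈ M) : (m : G) ∈ Subgroup.zpowers (b : G) := by
  have hint : ∀ x : cz z (b : G), x ∈ M → (x : G) ∈ R → x = 1 := by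
    intro x hx hxR
    have hxb := (OddQuot.mem_cz_iff.1 x.2).2
    by_contra hx1
    have hxz : (x : G) ≠ z := fun e => hz (by rwa [show (⟨z, z_mem_cz D⟩ : cz z (b : G)) = x from Subtype.ext e.symm])
    refine (centre_fix D hbp hπ hxR hxb fun q hq hqb => ?_).elim (fun e => hx1 (Subtype.ext e)) hxz
    by_contra hne
    refine hz ?_
    let p : cz z (b : G) := ⟨q, OddQuot.mem_cz_iff.2 ⟨D.good.le_cent q hq, hqb⟩⟩
    have hc : p * x * p⁻¹ * x⁻¹ ∈ M := mul_mem (Subgroup.Normal.conj_mem inferInstance x hx p) (inv_mem hx)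
    rcases D.comm_cases hq hxR with r | r
    · exact absurd (mul_inv_eq_iff_eq_mul.1 (mul_inv_eq_one.1 r)).symm hne
    · rwa [show p * x * p⁻¹ * x⁻¹ = ⟨z, z_mem_cz D⟩ from Subtype.ext r] at hc
  have hcomm : ∀ q ∈ R, q * (b : G) = b * q → (m : G) * q = q * m := by
    intro q hq hqb
    let p : cz z (b : G) := ⟨q, OddQuot.mem_cz_iff.2 ⟨D.good.le_cent q hq, hqb⟩⟩
    have h1 : m * p * m⁻¹ * p⁻¹ ∈ M := by
      rw [show m * p * m⁻¹ * p⁻¹ = m * (p * m⁻¹ * p⁻¹) by group]
      exact mul_mem hm (Subgroup.Normal.conj_mem inferInstance _ (inv_mem hm) p)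
    have hR : (m : G) * q * (m : G)⁻¹ * q⁻¹ ∈ R :=
      mul_mem (D.good.norm _ (OddQuot.mem_cz_iff.1 m.2).1 q hq) (inv_mem hq)
    have := congrArg Subtype.val (hint _ h1 hR)
    exact mul_inv_eq_iff_eq_mul.1 (mul_inv_eq_one.1 this)
  obtain ⟨i, hi⟩ := (toL_eq_one_iff D hbp hπ m).1 (toL_of_centralizing D hbp hπ hcomm)
  set r := (m : G) * ((b : G) ^ i)⁻¹ with hr
  have hmr : (m : G) = r * (b : G) ^ i := by rw [hr, inv_mul_cancel_right]
  have hbm : Commute (m : G) b := (OddQuot.mem_cz_iff.1 m.2).2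
  have hrb : r * (b : G) = b * r := by
    have : Commute r (b : G) := hbm.mul_left ((Commute.refl (b : G)).zpow_left i).inv_left
    exact this.eq
  rcases centre_fix D hbp hπ hi hrb (fun q hq hqb => by
      have h1 : Commute (m : G) q := hcomm q hq hqb
      have h2 : Commute ((b : G) ^ i) q := Commute.zpow_left (show Commute (b : G) q from hqb.symm) i
      exact (h1.mul_left h2.inv_left).eq) with r1 | r1
  · rw [hmr, r1, one_mul]; exact Subgroup.zpow_mem_zpowers _ i
  · exfalso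
    refine hz ?_
    have e : (⟨z, z_mem_cz D⟩ : cz z (b : G)) = m ^ 7 := Subtype.ext (by
      rw [SubgroupClass.coe_pow, hmr, r1,
        (Commute.zpow_right (hzb b : Commute z (b : G)) i).mul_pow,
        ← zpow_natCast ((b : G) ^ i), ← zpow_mul, mul_comm, zpow_mul, zpow_natCast,
        coe_pow_eq_one hbp, one_zpow, mul_one, pow_succ, show (6 : ℕ) = 2 * 3 from rfl, pow_mul,
        pow_two, D.good.x_sq, one_pow, one_mul])
    rw [e]; exact pow_mem hm 7

/-- The type-64 elements centralised by `b` are conjugates of `z` under the centraliser. -/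
theorem conj_of_fix64 (hne : ∃ g : G, g * z * g⁻¹ ∈ R ∧ g * z * g⁻¹ ≠ z) {q : G}
    (hq : q ∈ D.typeSet 64) (hqb : q * (b : G) = b * q) :
    ∃ h : HH, h * ⟨z, mem_H (hzb b)⟩ * h⁻¹ = ⟨q, mem_H hqb⟩ := by
  obtain ⟨h, hhb, hh⟩ := exists_conj_fix D hbp hπ hne hq hqb
  exact ⟨⟨h, mem_H hhb⟩, Subtype.ext hh⟩

include hne

/-- A normal subgroup of the centraliser not inside `⟨b⟩` contains `z`. -/
theorem z_mem_of_normal (M : Subgroup HH) [M.Normal] (hM : ¬ M ≤ BB) :
    (⟨z, mem_H (hzb b)⟩ : HH) ∈ M := by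
  haveI : Fact (Nat.Prime 7) := ⟨by norm_num⟩
  haveI hBn : (BB).Normal := ⟨fun x hx g => by
    rwa [Subgroup.mem_center_iff.1 (BB_central hx) g, mul_inv_cancel_right]⟩
  by_contra hzM
  have hzz : z * z = 1 := D.good.x_sq
  have hb7 := coe_pow_eq_one hbp
  set zh : HH := ⟨z, mem_H (hzb b)⟩ with hzh
  set N := M.map (QuotientGroup.mk' BB) with hN
  haveI : N.Normal := Subgroup.Normal.map inferInstance _ (QuotientGroup.mk'_surjective _)
  have hcap : ∀ y ∈ M, (y : G) * z = z * y → y ∈ BB := by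
    intro y hy hyz
    have hyc : (y : G) ∈ cz z (b : G) :=
      OddQuot.mem_cz_iff.2 ⟨hyz, OddQuot.mem_centralizer_zpowers.1 y.2⟩
    haveI : (M.comap (Subgroup.inclusion (OddQuot.cz_le (z := z) (b := (b : G))))).Normal :=
      inferInstance
    exact Subgroup.mem_subgroupOf.2 (cz_normal_le D hbp hπ
      (M := M.comap (Subgroup.inclusion OddQuot.cz_le)) (fun h => hzM h) (m := ⟨y, hyc⟩) hy)
  have hfix : ∀ y ∈ N, (QuotientGroup.mk zh : HH ⧸ BB) * y * (QuotientGroup.mk zh)⁻¹ = y → y = 1 := by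
    rintro _ ⟨y, hy, rfl⟩ he
    have hy' : QuotientGroup.mk (zh * y * zh⁻¹) = (QuotientGroup.mk y : HH ⧸ BB) := he
    obtain ⟨i, hi⟩ := (OddQuot.mk_eq_iff y (zh * y * zh⁻¹)).1 hy'.symm
    simp only [Subgroup.coe_mul, Subgroup.coe_inv, hzh] at hi
    have hbi : (b : G) ^ i = 1 := by
      have hzbc : Commute z ((b : G) ^ i) := Commute.zpow_right (hzb b) i
      have h2 : (y : G) = y * ((b : G) ^ i * (b : G) ^ i) := by
        calc (y : G) = (z * z) * y * (z * z)⁻¹ := by rw [hzz]; group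
          _ = z * (z * y * z⁻¹) * z⁻¹ := by group
          _ = z * ((y : G) * (b : G) ^ i) * z⁻¹ := by rw [hi]
          _ = (z * y * z⁻¹) * (z * (b : G) ^ i * z⁻¹) := by group
          _ = _ := by rw [hi, hzbc.eq, mul_inv_cancel_right, mul_assoc]
      exact OddQuot.zpow_eq_one (by norm_num : (7 : ℕ) ≠ 2) hb7 (hzb b) (x := 1) (by simp) (one_mul 1)
        (by rw [one_mul]; exact mul_eq_left.1 h2.symm)
    rw [hbi, mul_one] at hi
    exact (QuotientGroup.eq_one_iff y).2 (hcap y hy (mul_inv_eq_iff_eq_mul.1 hi).symm)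
  let φ : N →* N :=
    ((MulAut.conj (QuotientGroup.mk zh : HH ⧸ BB)).toMonoidHom.comp N.subtype).codRestrict N
      fun x => Subgroup.Normal.conj_mem inferInstance x.1 x.2 _
  have hinv : Function.Involutive φ := by
    intro x
    refine Subtype.ext ?_
    show (QuotientGroup.mk zh : HH ⧸ BB) * (QuotientGroup.mk zh * x.1 * (QuotientGroup.mk zh)⁻¹) *
      (QuotientGroup.mk zh)⁻¹ = x.1
    have e : (QuotientGroup.mk zh : HH ⧸ BB) * QuotientGroup.mk zh = 1 :=
      congrArg QuotientGroup.mk (show zh * zh = 1 from Subtype.ext hzz)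
    calc _ = (QuotientGroup.mk zh * QuotientGroup.mk zh) * x.1 *
          ((QuotientGroup.mk zh : HH ⧸ BB) * QuotientGroup.mk zh)⁻¹ := by group
      _ = x.1 := by rw [e]; group
  have hzinv : ∀ y ∈ N, (QuotientGroup.mk zh : HH ⧸ BB) * y * (QuotientGroup.mk zh)⁻¹ = y⁻¹ := by
    intro y hy
    exact congrArg Subtype.val (congrFun (MonoidHom.FixedPointFree.coe_eq_inv_of_involutive (φ := φ)
      (fun g hg => Subtype.ext (hfix g.1 g.2 (congrArg Subtype.val hg))) hinv) ⟨y, hy⟩)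
  obtain ⟨q, hq⟩ : {q : G | q ∈ D.typeSet 64 ∧ q * (b : G) = b * q}.Nonempty :=
    Set.nonempty_of_ncard_ne_zero (by rw [ncard_fix64 D hbp hπ]; norm_num)
  have hqz : q * z ∈ D.typeSet 64 ∧ q * z * (b : G) = b * (q * z) := by
    obtain ⟨v, hv, hl⟩ := hq.1
    exact ⟨⟨v, hv, (D.lift_pair hl _).2 (Or.inr rfl)⟩,
      ((show Commute q (b : G) from hq.2).mul_left (hzb b)).eq⟩
  have hall : ∀ r : G, ∀ hr : r ∈ D.typeSet 64 ∧ r * (b : G) = b * r, ∀ y ∈ N,
      (QuotientGroup.mk (⟨r, mem_H hr.2⟩ : HH) : HH ⧸ BB) * y *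
        (QuotientGroup.mk (⟨r, mem_H hr.2⟩ : HH))⁻¹ = y⁻¹ := by
    intro r hr y hy
    obtain ⟨h, hh⟩ := conj_of_fix64 D hbp hπ hne hr.1 hr.2
    rw [← hh, ← hzh, QuotientGroup.mk_mul, QuotientGroup.mk_mul, QuotientGroup.mk_inv]
    have := hzinv _ (Subgroup.Normal.conj_mem inferInstance y hy (QuotientGroup.mk h)⁻¹)
    rw [inv_inv] at this
    calc _ = (QuotientGroup.mk h : HH ⧸ BB) * (QuotientGroup.mk zh *
          ((QuotientGroup.mk h)⁻¹ * y * QuotientGroup.mk h) * (QuotientGroup.mk zh)⁻¹) *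
          (QuotientGroup.mk h)⁻¹ := by group
      _ = y⁻¹ := by rw [this]; group
  have htriv : ∀ y ∈ N, y = 1 := by
    intro y hy
    refine hfix y hy ?_
    have h1 := hall _ hqz y hy
    have h2 := hall _ hq y⁻¹ (inv_mem hy)
    rw [show (⟨q * z, mem_H hqz.2⟩ : HH) = ⟨q, mem_H hq.2⟩ * zh from Subtype.ext rfl,
      QuotientGroup.mk_mul] at h1
    have h3 : y = y⁻¹ := by
      calc y = y⁻¹⁻¹ := (inv_inv y).symm
        _ = _ := h2.symm
        _ = (QuotientGroup.mk (⟨q, mem_H hq.2⟩ : HH) : HH ⧸ BB) * (QuotientGroup.mk zh * y *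
            (QuotientGroup.mk zh)⁻¹) * (QuotientGroup.mk (⟨q, mem_H hq.2⟩ : HH))⁻¹ := by rw [hzinv y hy]
        _ = _ := by rw [← h1]; group
    rw [hzinv y hy, ← h3]
  exact hM fun m hm => (QuotientGroup.eq_one_iff m).1 (htriv _ (Subgroup.mem_map_of_mem _ hm))

/-- A normal subgroup containing `z` contains the centraliser of `b` in `R`. -/
theorem fix_mem_of_normal (M : Subgroup HH) [M.Normal] (hz : (⟨z, mem_H (hzb b)⟩ : HH) ∈ M)
    {p : G} (hp : p ∈ R) (hpb : p * (b : G) = b * p) : (⟨p, mem_H hpb⟩ : HH) ∈ M := by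
  obtain ⟨s, hs⟩ := (commute_iff D hbp hπ hp).1 hpb
  have key : ∀ a ∈ insert (0 : Fin 6 → ZMod 2) classes64, ∃ u, D.lift (repL a) u ∧
      ∃ hu : u * (b : G) = b * u, (⟨u, mem_H hu⟩ : HH) ∈ M := by
    intro a ha
    rcases Finset.mem_insert.1 ha with rfl | ha
    · refine ⟨1, by rw [repL_zero]; exact D.lift_zero, by simp, ?_⟩
      exact one_mem M
    · obtain ⟨u, hu⟩ := D.lift_left (repL a)
      have hub := (commute_iff D hbp hπ (D.lift_mem hu)).2 ⟨a, hu⟩
      obtain ⟨h, hh⟩ := conj_of_fix64 D hbp hπ hne ((mem64_iff D hbp hπ hu).2 ha) hub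
      exact ⟨u, hu, hub, hh ▸ Subgroup.Normal.conj_mem inferInstance _ hz h⟩
  obtain ⟨a, ha, c, hc, rfl⟩ := classes64_span s
  obtain ⟨u, hu, hub, huM⟩ := key a ha
  obtain ⟨v, hv, hvb, hvM⟩ := key c hc
  have hsum : D.lift (repL (a + c)) (u * v) := by
    refine (D.lift_cong (D.lift_add hu hv) _).2 ?_
    refine cong_of_sig (k0_repL _) (by rw [smul_add', k0_repL, k0_repL]) ?_
    rw [AddSubgroup.coe_add, sig_add (repL a).2 (repL c).2, sig_repL, sig_repL, sig_repL]
  rcases (D.lift_pair hsum p).1 hs with r | r <;> subst r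
  · exact mul_mem huM hvM
  · exact mul_mem (mul_mem huM hvM) hz

/-- The Fitting subgroup is inside `⟨b⟩`. -/
theorem fitting_le : fittingSubgroup HH ≤ BB := by
  haveI : Fact (Nat.Prime 2) := ⟨Nat.prime_two⟩
  haveI : Fact (Nat.Prime 7) := ⟨by norm_num⟩
  by_contra hF
  haveI hFn := Components.fittingSubgroup_normal (G := HH)
  have hzF := z_mem_of_normal D hbp hπ hne (fittingSubgroup HH) hF
  set zh : HH := ⟨z, mem_H (hzb b)⟩ with hzh
  set P := pCore 2 HH with hPdef
  haveI hPn : P.Normal :=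
    @Subgroup.normal_of_characteristic _ _ _ (PSolvable.pCore_characteristic (p := 2))
  have hzP : zh ∈ P := by
    haveI : Group.IsNilpotent (fittingSubgroup HH) := Components.fittingSubgroup_isNilpotent
    obtain ⟨Q₂⟩ : Nonempty (Sylow 2 (fittingSubgroup HH)) := inferInstance
    haveI hQn : (Q₂ : Subgroup (fittingSubgroup HH)).Normal := Sylow.normal_of_normalizerCondition Group.normalizerCondition_of_isNilpotent Q₂
    haveI : (Q₂ : Subgroup (fittingSubgroup HH)).Characteristic := Q₂.characteristic_of_normal hQn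
    have hz2 : (⟨zh, hzF⟩ : fittingSubgroup HH) ∈ (Q₂ : Subgroup (fittingSubgroup HH)) := by
      have hp : IsPGroup 2 (Subgroup.zpowers (⟨zh, hzF⟩ : fittingSubgroup HH)) :=
        IsPGroup.of_card (n := 1) (by
          rw [Nat.card_zpowers, pow_one]
          exact orderOf_eq_prime (Subtype.ext (Subtype.ext (by
            simpa [pow_two] using D.good.x_sq)))
            fun e => D.good.x_ne (congrArg Subtype.val (congrArg Subtype.val e) :))
      obtain ⟨Q', hQ'⟩ := hp.exists_le_sylow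
      haveI : Unique (Sylow 2 (fittingSubgroup HH)) := Sylow.unique_of_normal Q₂ hQn
      rw [Subsingleton.elim Q₂ Q']
      exact hQ' (Subgroup.mem_zpowers _)
    exact PSolvable.le_pCore (G := HH) (Q₂.2.map (fittingSubgroup HH).subtype)
      ⟨⟨zh, hzF⟩, hz2, rfl⟩
  have hR0 : ∀ {p : G} (hp : p ∈ R) (hpb : p * (b : G) = b * p), (⟨p, mem_H hpb⟩ : HH) ∈ P :=
    fun hp hpb => fix_mem_of_normal D hbp hπ hne P hzP hp hpb
  have hcap : ∀ y ∈ P, (y : G) * z = z * y → (y : G) ∈ R := by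
    intro y hy hyz
    haveI := isSimpleGroup_SL32
    set P' := P.comap (Subgroup.inclusion (OddQuot.cz_le (z := z) (b := (b : G)))) with hP'
    let y' : cz z (b : G) := ⟨y, OddQuot.mem_cz_iff.2 ⟨hyz, OddQuot.mem_centralizer_zpowers.1 y.2⟩⟩
    have hp2 : IsPGroup 2 P' :=
      (PSolvable.pCore_isPGroup (p := 2) (G := HH)).comap_of_injective _ (Subgroup.inclusion_injective _)
    have h1 : toL D hbp hπ y' = 1 := by
      rcases ((inferInstance : P'.Normal).map (toL D hbp hπ) (toL_surjective D hbp hπ)).eq_bot_or_eq_top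
        with h | h
      · exact Subgroup.mem_bot.1 (h ▸ Subgroup.mem_map_of_mem _ (show y' ∈ P' from hy))
      · exfalso
        obtain ⟨k, hk⟩ := IsPGroup.iff_card.1 (hp2.map (toL D hbp hπ))
        rw [h, Subgroup.card_top] at hk
        have h168 := LinGroup.card_SL_mul (F := ZMod 2) 3 (by norm_num)
        rw [hk, ZMod.card, Fin.prod_univ_three] at h168
        norm_num at h168
        have h7 : 7 ∣ 2 ^ k := ⟨24, by omega⟩
        exact absurd ((Nat.prime_dvd_prime_iff_eq (by norm_num) Nat.prime_two).1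
          ((by norm_num : Nat.Prime 7).dvd_of_dvd_pow h7)) (by norm_num)
    obtain ⟨i, hi⟩ := (toL_eq_one_iff D hbp hπ y').1 h1
    set w := (y : G) * ((b : G) ^ i)⁻¹ with hw
    have hwb : w * (b : G) = b * w := by
      have h1 : Commute (y : G) b := OddQuot.mem_centralizer_zpowers.1 y.2
      exact (h1.mul_left ((Commute.refl (b : G)).zpow_left i).inv_left).eq
    have hbP : (⟨(b : G) ^ i, mem_H ((Commute.refl (b : G)).zpow_left i).eq⟩ : HH) ∈ P := by
      rw [show (⟨(b : G) ^ i, mem_H ((Commute.refl (b : G)).zpow_left i).eq⟩ : HH) =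
        (⟨w, mem_H hwb⟩ : HH)⁻¹ * y from Subtype.ext (by simp [hw])]
      exact mul_mem (inv_mem (hR0 hi hwb)) hy
    obtain ⟨k, hk⟩ := (PSolvable.pCore_isPGroup (p := 2) (G := HH)) ⟨_, hbP⟩
    have hk' : ((b : G) ^ i) ^ (2 ^ k) = 1 := by simpa using congrArg Subtype.val (congrArg Subtype.val hk)
    have h7 : ((b : G) ^ i) ^ 7 = 1 := by
      rw [← zpow_natCast, ← zpow_mul, mul_comm, zpow_mul, zpow_natCast, coe_pow_eq_one hbp, one_zpow]
    have := pow_gcd_eq_one.2 ⟨hk', h7⟩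
    rw [show Nat.gcd (2 ^ k) 7 = 1 from Nat.Coprime.pow_left k (by norm_num), pow_one] at this
    rw [hw, this, inv_one, mul_one] at hi
    exact hi
  -- `P` is the centraliser of `b` in `R`
  have hPR : ∀ y ∈ P, (y : G) ∈ R := by
    by_contra hno
    push Not at hno
    obtain ⟨y, hy, hyR⟩ := hno
    set R₀ : Subgroup P := (R.comap (Subgroup.subtype HH)).subgroupOf P with hR₀
    haveI : Group.IsNilpotent P := (PSolvable.pCore_isPGroup (p := 2) (G := HH)).isNilpotent
    have hlt : R₀ < ⊤ := lt_top_iff_ne_top.2 fun e => hyR (e.ge (Subgroup.mem_top ⟨y, hy⟩))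
    obtain ⟨m, hmN, hmR⟩ := SetLike.exists_of_lt (Group.normalizerCondition_of_isNilpotent R₀ hlt)
    have hmR' : ((m : HH) : G) ∉ R := hmR
    refine hmR' (hcap m m.2 ?_)
    have hzR₀ : (⟨zh, hzP⟩ : P) ∈ R₀ := D.good.x_mem
    have hm1 := (Subgroup.mem_normalizer_iff.1 hmN ⟨zh, hzP⟩).1 hzR₀
    set u := ((m : HH) : G) * z * ((m : HH) : G)⁻¹ with hu
    have huR : u ∈ R := hm1
    have hub : u * (b : G) = b * u :=
      OddQuot.mem_centralizer_zpowers.1 (mul_mem (mul_mem (m : HH).2 (mem_H (hzb b))) (inv_mem (m : HH).2))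
    rcases centre_fix D hbp hπ huR hub (fun q hq hqb => by
        have hqm := (Subgroup.mem_normalizer_iff'.1 hmN (m⁻¹ * ⟨⟨q, mem_H hqb⟩, hR0 hq hqb⟩)).2
          (by rw [mul_inv_cancel_left]; exact hq)
        have hq' : ((m : HH) : G)⁻¹ * q * ((m : HH) : G) ∈ R := hqm
        have hc := D.good.le_cent _ hq'
        calc u * q = ((m : HH) : G) * (z * (((m : HH) : G)⁻¹ * q * (m : HH))) * ((m : HH) : G)⁻¹ := by
              rw [hu]; group
          _ = ((m : HH) : G) * ((((m : HH) : G)⁻¹ * q * (m : HH)) * z) * ((m : HH) : G)⁻¹ := by rw [hc]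
          _ = q * u := by rw [hu]; group) with r | r
    · exact absurd (conj_eq_one_iff.1 r) D.good.x_ne
    · exact mul_inv_eq_iff_eq_mul.1 r
  obtain ⟨q, hq⟩ : {q : G | q ∈ D.typeSet 64 ∧ q * (b : G) = b * q}.Nonempty :=
    Set.nonempty_of_ncard_ne_zero (by rw [ncard_fix64 D hbp hπ]; norm_num)
  obtain ⟨h, hh⟩ := conj_of_fix64 D hbp hπ hne hq.1 hq.2
  have hhG : (h : G) * z * (h : G)⁻¹ = q := congrArg Subtype.val hh
  refine (D.type_ne (by norm_num) le_rfl hq.1).2 ?_
  rcases centre_fix D hbp hπ (D.typeSet_subset _ hq.1) hq.2 (fun p hp hpb => by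
      have hm : h⁻¹ * ⟨p, mem_H hpb⟩ * h ∈ P := by
        simpa using Subgroup.Normal.conj_mem inferInstance _ (hR0 hp hpb) h⁻¹
      have hq' : (h : G)⁻¹ * p * (h : G) ∈ R := hPR _ hm
      have hc := D.good.le_cent _ hq'
      rw [← hhG]
      calc (h : G) * z * (h : G)⁻¹ * p = (h : G) * (z * ((h : G)⁻¹ * p * h)) * (h : G)⁻¹ := by group
        _ = (h : G) * (((h : G)⁻¹ * p * h) * z) * (h : G)⁻¹ := by rw [hc]
        _ = p * ((h : G) * z * (h : G)⁻¹) := by group) with r | r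
  · exact absurd r (D.type_ne (by norm_num) le_rfl hq.1).1
  · exact r

/-- The centraliser of `b` in `R` lies in the layer. -/
theorem fix_mem_layer {p : G} (hp : p ∈ R) (hpb : p * (b : G) = b * p) :
    (⟨p, mem_H hpb⟩ : HH) ∈ layer HH := by
  haveI := Components.layer_normal (G := HH)
  refine fix_mem_of_normal D hbp hπ hne (layer HH) (z_mem_of_normal D hbp hπ hne _ fun hle => ?_) hp hpb
  have hF : generalizedFittingSubgroup HH ≤ BB := sup_le hle (fitting_le D hbp hπ hne)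
  have hc := Components.centralizer_generalizedFittingSubgroup_le (G := HH)
  have hall : ∀ x : HH, x ∈ BB := fun x => hF (hc (Subgroup.mem_centralizer_iff.2 fun y hy =>
    (Subgroup.mem_center_iff.1 (BB_central (hF hy)) x).symm))
  obtain ⟨i, hi⟩ := Subgroup.mem_zpowers_iff.1 (Subgroup.mem_subgroupOf.1 (hall ⟨z, mem_H (hzb b)⟩))
  exact D.good.x_ne ((show (b : G) ^ i = z from hi).symm.trans
    (b_zpow_mem_R D hbp hπ (by rw [show (b : G) ^ i = z from hi]; exact D.good.x_mem)))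

end

end Cfsg.Agent.Lib.MonsterType.Held
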