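import Cfsg.Agent.Lib.MonsterType.Held.Type

/-!
Sylow 7-subgroups of the joint centraliser of two orthogonal central involutions.
-/

set_option autoImplicit false

namespace Cfsg.Agent.Lib.MonsterType.Held

open Cfsg
open Cfsg.Agent.Lib
open Cfsg.Agent.Lib.Leech
open Cfsg.Agent.Lib.LargeExtra

local notation "mk₁" => QuotientGroup.mk' (Subgroup.center Co0)

theorem exists_aligned {G : Type*} [Group G] [Finite G] {z : G} {R : Subgroup G} (D : MData z R)
    (hne : ∃ g : G, g * z * g⁻¹ ∈ R ∧ g * z * g⁻¹ ≠ z) {s : G} (hsR : s ∈ R) (hs : IsConj z s)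
    (hs1 : s ≠ z) (B : Subgroup G) (hB : B ≤ Subgroup.centralizer ({z, s} : Set G))
    (hBp : Nat.card B = 7 ^ (Nat.card ↥(Subgroup.centralizer ({z, s} : Set G))).factorization 7) :
    ∃ (D' : MData z R) (b : ↥(Subgroup.centralizer ({z} : Set G))),
      b ^ 7 = 1 ∧ D'.π b = QuotientGroup.mk k0 ∧ B = Subgroup.zpowers (b : G) := by
  haveI : Fact (Nat.Prime 7) := ⟨by norm_num⟩
  haveI := finite_co0
  have hX : Subgroup.centralizer ({z, s} : Set G) =
      Subgroup.centralizer ({z} : Set G) ⊓ Subgroup.centralizer ({s} : Set G) := by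
    ext x
    simp [Subgroup.mem_centralizer_iff, Subgroup.mem_inf]
  have h64 := (isConj_iff_type64 D hne hsR).1 ⟨hs, hs1⟩
  rw [hX, factorization_joint D hne h64, pow_one] at hBp
  rw [hX] at hB
  obtain ⟨⟨x, hxB⟩, hxo⟩ := exists_prime_orderOf_dvd_card' (G := B) 7 (by rw [hBp])
  replace hxo : orderOf x = 7 := by
    rw [← hxo]; exact orderOf_injective B.subtype B.subtype_injective ⟨x, hxB⟩
  have hBx : B = Subgroup.zpowers x :=
    (Subgroup.eq_of_le_of_card_ge (Subgroup.zpowers_le.2 hxB) (by rw [hBp, Nat.card_zpowers, hxo])).symm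
  set c : ↥(Subgroup.centralizer ({z} : Set G)) := ⟨x, (hB hxB).1⟩ with hc
  have hc7 : c ^ 7 = 1 := Subtype.ext (by simp [hc, ← hxo, pow_orderOf_eq_one])
  obtain ⟨g₀, hl⟩ := exists_recoord D h64
  obtain ⟨g, rfl⟩ := _root_.isConj_iff.1 hs
  have S := setting_of_conj D.good hsR hs1
  have hβ : (D.recoord g₀).π c ∈ crossStab.map mk₁ := by
    rw [← map_fix (D.recoord g₀) S hl]
    exact Subgroup.mem_map_of_mem _ (show c ∈ (Subgroup.centralizer ({z} : Set G) ⊓
      Subgroup.centralizer ({g * z * g⁻¹} : Set G)).subgroupOf _ from hB hxB)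
  have hβo : orderOf ((D.recoord g₀).π c) = 7 := by
    refine orderOf_eq_prime (by rw [← map_pow, hc7, map_one]) fun e => ?_
    have h1 : x = 1 := eq_one_of_pow_eq_one D (by norm_num : (7 : ℕ) ≠ 2)
      (((D.recoord g₀).π_eq_one c).1 e) (by rw [← hxo, pow_orderOf_eq_one])
    rw [h1, orderOf_one] at hxo
    norm_num at hxo
  have hk : (QuotientGroup.mk k0 : Spor.Co1) ∈ crossStab.map mk₁ :=
    ⟨k0, monoCo_mem_crossStab sigma sigma_mem 0 (zero_mem _), rfl⟩
  have hko : orderOf (QuotientGroup.mk k0 : Spor.Co1) = 7 :=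
    orderOf_eq_prime (by rw [← QuotientGroup.mk_pow, k0_pow_seven]; rfl) mk_k0_ne_one
  obtain ⟨m, ⟨m₀, hm₀, rfl⟩, i, hi⟩ := exists_conj_pow (p := 7) (by
    rw [card_map_crossStab]; exact factorization_seven_mul (by norm_num)) hβ hk hβo hko
  have hi7 : i % 7 ≠ 0 := fun e => by
    rw [← Nat.mod_add_div i 7, e, zero_add, pow_mul, ← QuotientGroup.mk_pow, k0_pow_seven,
      QuotientGroup.mk_one, one_pow, mul_inv_eq_one, mul_eq_left] at hi
    rw [hi, orderOf_one] at hβo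
    norm_num at hβo
  obtain ⟨j, hj⟩ : ∃ j, i * j % 7 = 1 := by
    rcases (by omega : i % 7 = 1 ∨ i % 7 = 2 ∨ i % 7 = 3 ∨ i % 7 = 4 ∨ i % 7 = 5 ∨ i % 7 = 6) with
      r | r | r | r | r | r
    exacts [⟨1, by omega⟩, ⟨4, by omega⟩, ⟨5, by omega⟩, ⟨2, by omega⟩, ⟨3, by omega⟩, ⟨6, by omega⟩]
  refine ⟨(D.recoord g₀).recoord m₀, c ^ j, by rw [← pow_mul, mul_comm, pow_mul, hc7, one_pow], ?_, ?_⟩
  · show MulAut.conj (QuotientGroup.mk m₀ : Spor.Co1) ((D.recoord g₀).π (c ^ j)) = _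
    rw [map_pow, map_pow, MulAut.conj_apply]
    rw [show (QuotientGroup.mk m₀ : Spor.Co1) * (D.recoord g₀).π c * (QuotientGroup.mk m₀)⁻¹ =
      (QuotientGroup.mk k0) ^ i from hi, ← pow_mul, ← Nat.mod_add_div (i * j) 7, hj, pow_add, pow_one,
      pow_mul, ← QuotientGroup.mk_pow, k0_pow_seven, QuotientGroup.mk_one, one_pow, mul_one]
  · rw [hBx, SubgroupClass.coe_pow]
    refine le_antisymm (Subgroup.zpowers_le.2 ?_) (Subgroup.zpowers_le.2 (Subgroup.npow_mem_zpowers x j))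
    have e : (x ^ j) ^ i = x := by
      rw [← pow_mul, mul_comm, ← Nat.mod_add_div (i * j) 7, hj, pow_add, pow_one, pow_mul, ← hxo,
        pow_orderOf_eq_one, one_pow, mul_one]
    exact Subgroup.mem_zpowers_iff.2 ⟨i, by rw [zpow_natCast]; exact e⟩

end Cfsg.Agent.Lib.MonsterType.Held
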