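import Cfsg.Agent.Lib.MonsterType.Held.Joint
import Cfsg.Agent.Lib.MonsterType.Held.FrameData

/-!
An involution inverting `b`, and no element inverting `b` centralises the centraliser of `b` in `R`.
-/

set_option autoImplicit false

namespace Cfsg.Agent.Lib.MonsterType.Held

open Cfsg
open Cfsg.Agent.Lib
open Cfsg.Agent.Lib.Leech
open Cfsg.Agent.Lib.LargeExtra
open scoped Matrix

local notation "mk₁" => QuotientGroup.mk' (Subgroup.center Co0)

/-- The frame. -/
def fr (k : Fin 24) : GolayPt → ℤ := fun p => (Data.frameJ.getD k.val []).getD (Golay.idx p).val 0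

theorem fr_checks : (∀ k, leechChk (fr k) = true ∧ sqNorm (fr k) = 64 ∧ congChk (fr k) (fr 0) = true) ∧
    (∀ k, matMap jM (fr k) = fr k ∨ matMap jM (fr k) = -fr k) ∧
    (∀ k l, k ≠ l → fr k ≠ fr l ∧ fr k ≠ -fr l) := by
  refine ⟨?_, ?_, ?_⟩ <;> decide +kernel

/-- The inverting automorphism is a sign change in suitable coordinates. -/
theorem jCo_signs : ∃ g : Co0, g * jCo * g⁻¹ ∈ signs := by
  let U : Fin 24 → leechLattice := fun k => ⟨fr k, leechChk_sound (fr_checks.1 k).1⟩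
  have hn : ∀ k, sqNorm (U k : GolayPt → ℤ) = 64 := fun k => (fr_checks.1 k).2.1
  obtain ⟨g, hg⟩ := exists_smul64 (U 0) (pt8 none) (hn 0) (sqNorm_vec8 none)
  have hpt : ∀ k, ∃ i, g • U k = pt8 i ∨ g • U k = -pt8 i := by
    intro k
    have hc : Cong (U k) (U 0) := cong_of_chk (fr_checks.1 k).2.2
    have hc' := hc.smul g
    rw [hg] at hc'
    obtain ⟨i, hi⟩ := mem_stdCross_iff.1 (mem_stdCross_of_cong (by rw [sqNorm_smul]; exact hn k) hc')
    exact ⟨i, hi.imp (fun e => Subtype.ext e) (fun e => Subtype.ext e)⟩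
  choose f hf using hpt
  have hinj : Function.Injective f := by
    intro k l e
    by_contra hne
    have hU : U k = U l ∨ U k = -U l := by
      have : g • U k = g • U l ∨ g • U k = g • (-U l) := by
        rw [smul_neg']
        rcases hf k with a | a <;> rcases hf l with b | b <;> simp [a, b, e]
      exact this.imp (fun h => MulAction.injective g h) (fun h => MulAction.injective g h)
    rcases hU with h | h
    · exact (fr_checks.2.2 k l hne).1 (congrArg Subtype.val h)
    · exact (fr_checks.2.2 k l hne).2 (congrArg Subtype.val h)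
  have hsurj : Function.Surjective f :=
    ((Fintype.bijective_iff_injective_and_card f).2 ⟨hinj, by simp [Golay.card_golayPt]⟩).2
  have hj : ∀ k, jCo • U k = U k ∨ jCo • U k = -U k := fun k =>
    (fr_checks.2.1 k).imp (fun e => Subtype.ext ((matCo_smul _ _ _ _ _ _).trans e))
      (fun e => Subtype.ext ((matCo_smul _ _ _ _ _ _).trans e))
  have hpm : ∀ i, (g * jCo * g⁻¹) • pt8 i = pt8 i ∨ (g * jCo * g⁻¹) • pt8 i = -pt8 i := by
    intro i
    obtain ⟨k, rfl⟩ := hsurj i
    have hk : (g * jCo * g⁻¹) • (g • U k) = g • U k ∨ (g * jCo * g⁻¹) • (g • U k) = -(g • U k) := by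
      rw [mul_smul, mul_smul, inv_smul_smul, ← smul_neg']
      exact (hj k).imp (fun e => by rw [e]) (fun e => by rw [e])
    rcases hf k with a | a <;> rw [a] at hk
    · exact hk
    · rw [smul_neg', neg_neg, neg_inj] at hk
      rcases hk with h | h
      · exact Or.inl h
      · exact Or.inr (by rw [← neg_neg ((g * jCo * g⁻¹) • pt8 (f k)), h])
  refine ⟨g, ?_⟩
  set m := g * jCo * g⁻¹ with hm
  have hmem : m ∈ crossStab := by
    rw [mem_crossStab_iff]
    rcases hpm none with h | h <;> rw [h]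
    exacts [cong_refl _, cong_neg _]
  obtain ⟨τ, hτ, w, hw, e⟩ := exists_mono_of_mem_crossStab hmem
  obtain rfl : τ = 1 := by
    refine Equiv.ext fun i => ?_
    by_contra hne
    have h := hpm i
    rw [e, monoCo_smul_pt8] at h
    have hv : ((if w (τ i) = 1 then -pt8 (τ i) else pt8 (τ i) : leechLattice) : GolayPt → ℤ) (τ i) = 0 := by
      rcases h with h | h <;> rw [h] <;> simp [pt8, vec8, (Ne.symm (by simpa using hne) : i ≠ τ i)]
    split at hv <;> simp [pt8, vec8] at hv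
  exact mem_signs_iff.2 ⟨w, hw, e⟩

theorem j_moves : ∀ a : Fin 3 → ZMod 2, sig (matMap jM (rep (comb a))) ≠ comb ![1, 0, 0] := by
  decide +kernel

section

variable {G : Type*} [Group G] [Finite G] {z : G} {R : Subgroup G} (D : MData z R)

/-- A nontrivial image of a sign change lifts to an involution. -/
theorem exists_involution_lift {R' : Subgroup G} {s : G} (S : ExtraTwo.Pair.Setting R R' z s)
    (hcard' : Nat.card R' = 2 ^ 25) (hv : D.lift (pt8 none) s) {ε : Spor.Co1}
    (hε : ε ∈ signs.map mk₁) (hε1 : ε ≠ 1) :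
    ∃ c : ↥(Subgroup.centralizer ({z} : Set G)), D.π c = ε ∧ c * c = 1 := by
  obtain ⟨hI, hsig⟩ := inf_card D S hcard' hv
  rw [← hsig] at hε
  obtain ⟨c, hc, rfl⟩ := hε
  have hcR : (c : G) ∈ R' := hc.1
  have hcn : (c : G) ∉ R := fun h => hε1 ((D.π_eq_one c).2 h)
  rcases S.hS.sq_cases hcR with h | h
  · exact ⟨c, rfl, Subtype.ext h⟩
  obtain ⟨w, hw, hcw⟩ : ∃ w ∈ R ⊓ R', (c : G) * w ≠ w * c := by
    by_contra hno
    push Not at hno
    have hsI : s ∈ R ⊓ R' := ⟨S.hs, S.hS.x_mem⟩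
    let T : Subgroup G := extend S.hS (R ⊓ R') inf_le_right hsI c hcR
    have hT : Nat.card T = 2 * 2 ^ 13 := by
      rw [card_extend _ _ inf_le_right _ _ _ (fun h => hcn h.1), hI]
    have hle : Nat.card T ≤ 2 ^ 13 := by
      refine card_le_of_comm S hcard' (extend_le _ _ inf_le_right _ _ _)
        (le_extend _ _ inf_le_right _ _ _ hsI) ?_
      have h1 : ∀ y ∈ T, Commute (c : G) y := by
        intro y hy
        rcases hy with hy | hy
        · exact hno y hy
        · have := Commute.mul_right (Commute.refl (c : G)) (hno _ hy : Commute (c : G) ((c : G)⁻¹ * y))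
          rwa [mul_inv_cancel_left] at this
      have h2 : ∀ w ∈ R ⊓ R', ∀ y ∈ T, Commute w y := by
        intro w hw y hy
        rcases hy with hy | hy
        · exact S.inf_comm_eq hw hy
        · have := Commute.mul_right (hno w hw : Commute (c : G) w).symm
            (S.inf_comm_eq hw hy : Commute w ((c : G)⁻¹ * y))
          rwa [mul_inv_cancel_left] at this
      intro a ha y hy
      rcases ha with ha | ha
      · exact (h2 a ha y hy).eq
      · have := Commute.mul_left (h1 y hy) (h2 _ ha y hy)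
        rw [mul_inv_cancel_left] at this
        exact this.eq
    omega
  have hconj : (c : G) * w * (c : G)⁻¹ = w * s := by
    rcases S.hS.comm c hcR w hw.2 with r | r
    · exact absurd (conj_eq_iff_comm.1 r) hcw
    · exact r
  have hww : w * w = 1 := by
    rcases S.hQ.sq_cases hw.1 with r | r
    · exact r
    rcases S.hS.sq_cases hw.2 with r' | r'
    · exact r'
    · exact absurd (r'.symm.trans r) S.ne
  have hcs : s * (c : G) = c * s := (S.hS.le_cent c hcR).symm
  refine ⟨⟨w, Subgroup.mem_centralizer_singleton_iff.2 (S.hQ.le_cent w hw.1)⟩ * c, ?_, ?_⟩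
  · rw [map_mul, (D.π_eq_one ⟨w, _⟩).2 hw.1, one_mul]
  · refine Subtype.ext ?_
    show w * c * (w * c) = 1
    calc w * (c : G) * (w * c) = w * ((c : G) * w * (c : G)⁻¹) * (c * c) := by group
      _ = (w * w) * (s * s) := by rw [hconj, h]; group
      _ = 1 := by rw [hww, S.hS.x_sq, one_mul]

variable (hne : ∃ g : G, g * z * g⁻¹ ∈ R ∧ g * z * g⁻¹ ≠ z)

theorem jCo_inv : jCo * k0 * jCo⁻¹ = k0⁻¹ := by
  refine mul_inv_eq_iff_eq_mul.2 ?_
  conv_rhs => rw [← jCo_conj]
  rw [mul_assoc, inv_mul_cancel_left]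

include hne in
/-- The inverting automorphism lifts to an involution. -/
theorem exists_jInvolution :
    ∃ c : ↥(Subgroup.centralizer ({z} : Set G)), D.π c = QuotientGroup.mk jCo ∧ c * c = 1 := by
  obtain ⟨g, hgR, hgne⟩ := hne
  obtain ⟨g₀, hl⟩ := exists_recoord D ((isConj_iff_type64 D ⟨g, hgR, hgne⟩ hgR).1
    ⟨_root_.isConj_iff.2 ⟨g, rfl⟩, hgne⟩)
  obtain ⟨g₁, hg₁⟩ := jCo_signs
  have hε1 : (mk₁ (g₁ * jCo * g₁⁻¹) : Spor.Co1) ≠ 1 := by
    intro e
    rw [map_mul, map_mul, map_inv, mul_inv_eq_one, mul_eq_left] at e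
    have h := congrArg mk₁ jCo_inv
    rw [map_mul, map_mul, map_inv, map_inv, e, one_mul, inv_one, mul_one, QuotientGroup.mk'_apply] at h
    have h7 : (QuotientGroup.mk k0 : Spor.Co1) ^ 7 = 1 := by
      rw [← QuotientGroup.mk_pow, k0_pow_seven]; rfl
    have h2 : (QuotientGroup.mk k0 : Spor.Co1) ^ 2 = 1 := by
      rw [pow_two]; exact mul_eq_one_iff_eq_inv.2 h
    exact mk_k0_ne_one (by simpa using pow_gcd_eq_one.2 ⟨h7, h2⟩)
  obtain ⟨c, hc, hcc⟩ := exists_involution_lift (D.recoord g₀) (setting_of_conj D.good hgR hgne)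
    ((Subgroup.card_map_of_injective (MulAut.conj g).injective).trans D.card) hl
    (Subgroup.mem_map_of_mem _ hg₁) hε1
  obtain ⟨a, ha⟩ := D.π_surj (QuotientGroup.mk (g₁⁻¹ * g₀))
  refine ⟨a * c * a⁻¹, ?_, by rw [conj_mul, hcc, mul_one, mul_inv_cancel]⟩
  have hc' : (QuotientGroup.mk g₀ : Spor.Co1) * D.π c * (QuotientGroup.mk g₀)⁻¹ =
      QuotientGroup.mk (g₁ * jCo * g₁⁻¹) := hc
  have hc'' : D.π c = (QuotientGroup.mk g₀)⁻¹ * QuotientGroup.mk (g₁ * jCo * g₁⁻¹) * QuotientGroup.mk g₀ := by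
    rw [← hc']; group
  rw [map_mul, map_mul, map_inv, ha, hc'', QuotientGroup.mk_mul, QuotientGroup.mk_mul,
    QuotientGroup.mk_mul, QuotientGroup.mk_inv]
  group

variable {b : ↥(Subgroup.centralizer ({z} : Set G))} (hbp : b ^ 7 = 1) (hπ : D.π b = QuotientGroup.mk k0)

include hbp hπ

theorem orderOf_coe : orderOf (b : G) = 7 :=
  haveI : Fact (Nat.Prime 7) := ⟨by norm_num⟩
  (orderOf_injective (Subgroup.centralizer ({z} : Set G)).subtype Subtype.val_injective b).trans
    (orderOf_b D (by norm_num) hbp hπ mk_k0_ne_one)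

theorem card_comap_zpowers :
    Nat.card ((Subgroup.zpowers (D.π b)).comap D.π) = 2 ^ 25 * 7 := by
  haveI : Fact (Nat.Prime 7) := ⟨by norm_num⟩
  set P := (Subgroup.zpowers (D.π b)).comap D.π
  let f : P →* Spor.Co1 := D.π.comp P.subtype
  have hr : f.range = Subgroup.zpowers (D.π b) := by
    rw [MonoidHom.range_comp, Subgroup.range_subtype,
      Subgroup.map_comap_eq_self_of_surjective D.π_surj]
  have hker : Nat.card f.ker = 2 ^ 25 := by
    rw [← D.card]
    refine Nat.card_congr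
      { toFun := fun x => ⟨x.1.1.1, (D.π_eq_one x.1.1).1 x.2⟩
        invFun := fun r => ⟨⟨⟨r.1, Subgroup.mem_centralizer_singleton_iff.2 (D.good.le_cent r.1 r.2)⟩,
          by
            show D.π _ ∈ Subgroup.zpowers (D.π b)
            rw [(D.π_eq_one ⟨r.1, _⟩).2 r.2]; exact one_mem _⟩,
          (D.π_eq_one ⟨r.1, Subgroup.mem_centralizer_singleton_iff.2 (D.good.le_cent r.1 r.2)⟩).2 r.2⟩
        left_inv := fun x => rfl
        right_inv := fun r => rfl }
  have hord : orderOf (D.π b) = 7 :=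
    orderOf_eq_prime (by rw [← map_pow, hbp, map_one]) (by rw [hπ]; exact mk_k0_ne_one)
  rw [← Subgroup.card_mul_index f.ker, Subgroup.index_ker, hr, hker, Nat.card_zpowers, hord]

include hne in
/-- Some involution inverts `b`. -/
theorem exists_inverting_involution :
    ∃ t : ↥(Subgroup.centralizer ({z} : Set G)), t * t = 1 ∧ t ≠ 1 ∧ t * b * t⁻¹ = b⁻¹ := by
  haveI : Fact (Nat.Prime 7) := ⟨by norm_num⟩
  obtain ⟨t, ht, htt⟩ := exists_jInvolution D hne
  have ht' : t⁻¹ = t := inv_eq_of_mul_eq_one_right htt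
  set c := t * (b ^ 3 * t * (b ^ 3)⁻¹) with hc
  have hcinv : t * c * t⁻¹ = c⁻¹ := by
    simp only [hc, _root_.mul_inv_rev, inv_inv, ht', ← mul_assoc, htt, one_mul]
  have hmk : (QuotientGroup.mk jCo : Spor.Co1) * QuotientGroup.mk k0 * (QuotientGroup.mk jCo)⁻¹ =
      (QuotientGroup.mk k0)⁻¹ := by
    rw [← QuotientGroup.mk_inv, ← QuotientGroup.mk_inv, ← QuotientGroup.mk_mul, ← QuotientGroup.mk_mul,
      jCo_inv]
  have hk7 : (QuotientGroup.mk k0 : Spor.Co1) ^ 7 = 1 := by
    rw [← QuotientGroup.mk_pow, k0_pow_seven]; rfl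
  have hjj : (QuotientGroup.mk jCo : Spor.Co1)⁻¹ = QuotientGroup.mk jCo := by
    rw [← ht, ← map_inv, ht']
  have hπc : D.π c = QuotientGroup.mk k0 := by
    rw [hc, map_mul, map_mul, map_mul, map_inv, map_pow, ht, hπ]
    calc (QuotientGroup.mk jCo : Spor.Co1) * (QuotientGroup.mk k0 ^ 3 * QuotientGroup.mk jCo *
          (QuotientGroup.mk k0 ^ 3)⁻¹)
        = ((QuotientGroup.mk jCo : Spor.Co1) * QuotientGroup.mk k0 * (QuotientGroup.mk jCo)⁻¹) ^ 3 *
          (QuotientGroup.mk k0 ^ 3)⁻¹ := by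
            rw [conj_pow, hjj]; simp only [mul_assoc]
      _ = QuotientGroup.mk k0 * (QuotientGroup.mk k0 ^ 7)⁻¹ := by
            rw [hmk]; group
      _ = _ := by rw [hk7, inv_one, mul_one]
  have hc7 : ((c ^ 7 : ↥(Subgroup.centralizer ({z} : Set G))) : G) ∈ R :=
    (D.π_eq_one _).1 (by rw [map_pow, hπc, hk7])
  have hc28 : c ^ 28 = 1 := by
    refine Subtype.ext ?_
    rw [show 28 = 7 * 4 from rfl, pow_mul]
    simp only [Subgroup.coe_pow, OneMemClass.coe_one]
    simp only [Subgroup.coe_pow] at hc7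
    rw [show ((c : G) ^ 7) ^ 4 = ((c : G) ^ 7 * (c : G) ^ 7) * ((c : G) ^ 7 * (c : G) ^ 7) by group]
    rcases D.good.sq_cases hc7 with r | r <;> rw [r]
    · rw [one_mul]
    · exact D.good.x_sq
  set c1 := c ^ 8 with hc1
  have hc17 : c1 ^ 7 = 1 := by rw [hc1, ← pow_mul, show 8 * 7 = 28 * 2 from rfl, pow_mul, hc28, one_pow]
  have hπ1 : D.π c1 = QuotientGroup.mk k0 := by
    rw [hc1, map_pow, hπc, show 8 = 7 + 1 from rfl, pow_add, hk7, one_mul, pow_one]
  have hinv1 : t * c1 * t⁻¹ = c1⁻¹ := by rw [hc1, ← conj_pow, hcinv, inv_pow]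
  have hfac : (Nat.card ((Subgroup.zpowers (D.π b)).comap D.π)).factorization 7 = 1 := by
    rw [card_comap_zpowers D hbp hπ, mul_comm]
    exact factorization_seven_mul (by norm_num)
  obtain ⟨d, -, i, hi⟩ := exists_conj_pow hfac (x := b) (y := c1) (Subgroup.mem_zpowers _)
    (show D.π c1 ∈ Subgroup.zpowers (D.π b) by rw [hπ1, ← hπ]; exact Subgroup.mem_zpowers _)
    (orderOf_b D (by norm_num) hbp hπ mk_k0_ne_one)
    (orderOf_b D (by norm_num) hc17 hπ1 mk_k0_ne_one)
  refine ⟨d⁻¹ * t * d, ?_, ?_, ?_⟩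
  · calc d⁻¹ * t * d * (d⁻¹ * t * d) = d⁻¹ * (t * t) * d := by group
      _ = 1 := by rw [htt]; group
  · intro e
    have h1 : t = 1 := by
      calc t = d * (d⁻¹ * t * d) * d⁻¹ := by group
        _ = 1 := by rw [e]; group
    rw [h1, map_one] at ht
    rw [← ht, inv_one, one_mul, mul_one] at hmk
    exact mk_k0_ne_one (by
      simpa using pow_gcd_eq_one.2 ⟨hk7, (by rw [pow_two]; exact mul_eq_one_iff_eq_inv.2 hmk :
        (QuotientGroup.mk k0 : Spor.Co1) ^ 2 = 1)⟩)
  · have hb : b = d⁻¹ * c1 ^ i * d := by rw [← hi]; group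
    calc d⁻¹ * t * d * b * (d⁻¹ * t * d)⁻¹ = d⁻¹ * (t * c1 * t⁻¹) ^ i * d := by
          rw [conj_pow]; conv_lhs => rw [hb]
          group
      _ = (d⁻¹ * c1 ^ i * d)⁻¹ := by rw [hinv1, inv_pow]; group
      _ = b⁻¹ := by rw [← hb]

/-- No element inverting `b` centralises the centraliser of `b` in `R`. -/
theorem not_inverts (x : ↥(Subgroup.centralizer ({z} : Set G))) (hxb : x * b * x⁻¹ = b⁻¹)
    (hfix : ∀ q ∈ R, q * (b : G) = b * q → (x : G) * q * (x : G)⁻¹ = q) : False := by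
  haveI : Fact (Nat.Prime 7) := ⟨by norm_num⟩
  obtain ⟨k, hk⟩ := QuotientGroup.mk_surjective (D.π x)
  have hconj : (QuotientGroup.mk (k * k0 * k⁻¹) : Spor.Co1) = QuotientGroup.mk k0⁻¹ := by
    rw [QuotientGroup.mk_mul, QuotientGroup.mk_mul, QuotientGroup.mk_inv, QuotientGroup.mk_inv, hk,
      ← hπ, ← map_inv, ← map_mul, ← map_mul, hxb, map_inv]
  have hkk : k * k0 * k⁻¹ = k0⁻¹ := by
    rcases center_cases (QuotientGroup.eq.1 hconj.symm) with r | r
    · exact (inv_mul_eq_one.1 r).symm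
    · exfalso
      have e : k * k0 * k⁻¹ = k0⁻¹ * negCo := by rw [← r, mul_inv_cancel_left]
      have hc : Commute k0⁻¹ negCo := Subgroup.mem_center_iff.1 negCo_mem_center k0⁻¹
      have h7 := congrArg (· ^ 7) e
      simp only [conj_pow, k0_pow_seven, mul_one, mul_inv_cancel, hc.mul_pow, inv_pow, inv_one,
        one_mul] at h7
      rw [pow_succ, show (6 : ℕ) = 2 * 3 from rfl, pow_mul, pow_two,
        signs_sq negCo_mem_signs, one_pow, one_mul] at h7
      exact negCo_ne_one h7.symm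
  have hcm : jCo⁻¹ * k ∈ cen := by
    refine mem_cen_iff.2 ?_
    have hj := jCo_inv
    calc jCo⁻¹ * k * k0 = jCo⁻¹ * (k * k0 * k⁻¹) * k := by group
      _ = k0 * (jCo⁻¹ * k) := by rw [hkk, ← hj]; group
  set c : cen := ⟨jCo⁻¹ * k, hcm⟩ with hc
  set a : Fin 3 → ZMod 2 := ![1, 0, 0]
  obtain ⟨q, hq⟩ := D.lift_left (repL (comb a))
  have hqb : q * (b : G) = b * q := (commute_iff D hbp hπ (D.lift_mem hq)).2 ⟨_, hq⟩
  have hl := D.lift_conj x k hk.symm hq
  rw [hfix q (D.lift_mem hq) hqb] at hl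
  have hcong : Cong (k • repL (comb a)) (repL (comb a)) := (D.lift_cong hq _).1 hl
  have hac : Cong ((c : Co0) • repL (comb a)) (repL (comb (mat3 c *ᵥ a))) := by
    refine cong_of_sig (fixed_smul c (k0_repL _)) (k0_repL _) ?_
    rw [← act_sig c (k0_repL _), sig_repL, sig_repL, act_comb]
  have h2 := (hac.smul jCo).symm.trans (show Cong (jCo • (c : Co0) • repL (comb a)) (repL (comb a)) by
    rw [← mul_smul, hc]; simpa using hcong)
  have h3 := sig_cong h2
  rw [jCo, matCo_smul, sig_repL] at h3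
  exact j_moves _ h3

end

end Cfsg.Agent.Lib.MonsterType.Held
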