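import Cfsg.Agent.Lib.MonsterType.Held.Main
import Cfsg.Agent.Lib.MonsterType.Held.Outer
import Cfsg.Agent.Lib.MonsterType.Held.Layer

/-!
The normaliser of `⟨b⟩` induces all automorphisms, and an inverting involution acts on the layer of
the centraliser as an outer automorphism.
-/

set_option autoImplicit false

namespace Cfsg.Agent.Lib.MonsterType.Held

open Cfsg
open Cfsg.Agent.Lib
open Cfsg.Agent.Lib.Leech
open Cfsg.Agent.Lib.LargeExtra

section

variable {G : Type*} [Group G] [Finite G] {z : G} {R : Subgroup G} (D : MData z R)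
  {b : ↥(Subgroup.centralizer ({z} : Set G))} (hbp : b ^ 7 = 1) (hπ : D.π b = QuotientGroup.mk k0)

include D hbp hπ

theorem relIndex_normalizer :
    (Subgroup.centralizer (Subgroup.zpowers (b : G) : Set G)).relIndex
      (Subgroup.normalizer (Subgroup.zpowers (b : G) : Set G)) = 6 := by
  haveI : Fact (Nat.Prime 7) := ⟨by norm_num⟩
  set B := Subgroup.zpowers (b : G) with hB
  have hord : orderOf (b : G) = 7 := orderOf_coe D hbp hπ
  have hcard : Nat.card B = 7 := by rw [hB, Nat.card_zpowers, hord]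
  rw [Subgroup.relIndex, ← Subgroup.normalizerMonoidHom_ker, Subgroup.index_ker]
  have hs : Function.Surjective B.normalizerMonoidHom := by
    intro α
    obtain ⟨i, hi⟩ := Subgroup.mem_zpowers_iff.1 (α ⟨b, Subgroup.mem_zpowers _⟩).2
    obtain ⟨n, hn⟩ : ∃ n : ℕ, (b : G) ^ n = (α ⟨b, Subgroup.mem_zpowers _⟩ : G) ∧ n < 7 := by
      refine ⟨(i % 7).toNat, ?_, by omega⟩
      rw [← hi, ← zpow_natCast, Int.toNat_of_nonneg (by omega),
        show (7 : ℤ) = ((orderOf (b : G) : ℕ) : ℤ) by rw [hord]; rfl, zpow_mod_orderOf]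
    have hn0 : 0 < n := by
      by_contra h
      obtain rfl : n = 0 := by omega
      have h1 : α ⟨b, Subgroup.mem_zpowers _⟩ = 1 := Subtype.ext (by rw [← hn.1, pow_zero]; rfl)
      have h2 : (b : G) = 1 := congrArg Subtype.val (α.injective (h1.trans (map_one α).symm))
      rw [h2, orderOf_one] at hord
      norm_num at hord
    obtain ⟨k, hk⟩ := norm_all hn0 hn.2
    obtain ⟨c, -, hc⟩ := exists_lift D (by norm_num : (7 : ℕ) ≠ 2) hbp hπ mk_k0_ne_one
      (fun h => by have := Nat.le_of_dvd hn0 h; omega) hk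
    have hcG : (c : G) * b * (c : G)⁻¹ = (b : G) ^ n := by simpa using congrArg Subtype.val hc
    have hmem : (c : G) ∈ Subgroup.normalizer (B : Set G) := by
      rw [Subgroup.mem_normalizer_iff_map_conj_eq]
      refine Subgroup.eq_of_le_of_card_ge ?_
        (Nat.le_of_eq (Subgroup.card_map_of_injective (MulAut.conj (c : G)).injective).symm)
      rw [hB, MonoidHom.map_zpowers, Subgroup.zpowers_le]
      show (c : G) * b * (c : G)⁻¹ ∈ Subgroup.zpowers (b : G)
      rw [hcG]
      exact Subgroup.npow_mem_zpowers _ n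
    refine ⟨⟨c, hmem⟩, MulEquiv.ext fun x => ?_⟩
    obtain ⟨j, hj⟩ := Subgroup.mem_zpowers_iff.1 x.2
    have hx : x = (⟨b, Subgroup.mem_zpowers _⟩ : B) ^ j := Subtype.ext (by simpa using hj.symm)
    rw [hx, map_zpow, map_zpow]
    refine congrArg (· ^ j) (Subtype.ext ?_)
    rw [Subgroup.normalizerMonoidHom_apply_apply_coe]
    exact hcG.trans hn.1
  rw [MonoidHom.range_eq_top.2 hs, Subgroup.card_top, IsCyclic.card_mulAut, hcard,
    Nat.totient_prime (by norm_num)]

theorem exists_outer (hne : ∃ g : G, g * z * g⁻¹ ∈ R ∧ g * z * g⁻¹ ≠ z) :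
    ∃ t : G, orderOf t = 2 ∧ (∀ a ∈ Subgroup.zpowers (b : G), t * a * t⁻¹ = a⁻¹) ∧
      (∀ x ∈ (Cfsg.layer ↥(Subgroup.centralizer (Subgroup.zpowers (b : G) : Set G))).map
          (Subgroup.centralizer (Subgroup.zpowers (b : G) : Set G)).subtype,
        t * x * t⁻¹ ∈ (Cfsg.layer ↥(Subgroup.centralizer (Subgroup.zpowers (b : G) : Set G))).map
          (Subgroup.centralizer (Subgroup.zpowers (b : G) : Set G)).subtype) ∧
      ¬ ∃ l ∈ (Cfsg.layer ↥(Subgroup.centralizer (Subgroup.zpowers (b : G) : Set G))).map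
          (Subgroup.centralizer (Subgroup.zpowers (b : G) : Set G)).subtype,
        ∀ x ∈ (Cfsg.layer ↥(Subgroup.centralizer (Subgroup.zpowers (b : G) : Set G))).map
          (Subgroup.centralizer (Subgroup.zpowers (b : G) : Set G)).subtype,
        t * x * t⁻¹ = l * x * l⁻¹ := by
  obtain ⟨t, htt, ht1, htb⟩ := exists_inverting_involution D hne hbp hπ
  set H := Subgroup.centralizer (Subgroup.zpowers (b : G) : Set G) with hH
  set E := (Cfsg.layer H).map H.subtype with hE
  have httG : (t : G) * t = 1 := by simpa using congrArg Subtype.val htt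
  have htbG : (t : G) * b * (t : G)⁻¹ = (b : G)⁻¹ := by simpa using congrArg Subtype.val htb
  have htH : ∀ h ∈ H, (t : G) * h * (t : G)⁻¹ ∈ H := by
    intro h hh
    refine OddQuot.mem_centralizer_zpowers.2 ?_
    have hc : Commute h ((b : G)⁻¹) :=
      (show Commute h (b : G) from OddQuot.mem_centralizer_zpowers.1 hh).inv_right
    have e : (b : G) = (t : G) * (b : G)⁻¹ * (t : G)⁻¹ := by
      conv_lhs => rw [← inv_inv (b : G), ← htbG]
      group
    calc (t : G) * h * (t : G)⁻¹ * b = (t : G) * (h * (b : G)⁻¹) * (t : G)⁻¹ := by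
          conv_lhs => rw [e]
          group
      _ = (t : G) * ((b : G)⁻¹ * h) * (t : G)⁻¹ := by rw [hc.eq]
      _ = (b : G) * ((t : G) * h * (t : G)⁻¹) := by
          conv_rhs => rw [e]
          group
  let e : H ≃* H :=
    { toFun := fun h => ⟨(t : G) * h * (t : G)⁻¹, htH h h.2⟩
      invFun := fun h => ⟨(t : G) * h * (t : G)⁻¹, htH h h.2⟩
      left_inv := fun h => Subtype.ext (by
        calc (t : G) * ((t : G) * h * (t : G)⁻¹) * (t : G)⁻¹
            = ((t : G) * t) * h * ((t : G) * t)⁻¹ := by group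
          _ = h := by rw [httG]; group)
      right_inv := fun h => Subtype.ext (by
        calc (t : G) * ((t : G) * h * (t : G)⁻¹) * (t : G)⁻¹
            = ((t : G) * t) * h * ((t : G) * t)⁻¹ := by group
          _ = h := by rw [httG]; group)
      map_mul' := fun a c => Subtype.ext (by simp) }
  refine ⟨t, orderOf_eq_prime (by rw [pow_two, httG]) (fun h => ht1 (Subtype.ext h)), ?_, ?_, ?_⟩
  · intro a ha
    obtain ⟨i, rfl⟩ := Subgroup.mem_zpowers_iff.1 ha
    rw [← conj_zpow, htbG, inv_zpow]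
  · rintro _ ⟨x, hx, rfl⟩
    refine ⟨e x, ?_, rfl⟩
    have := Subgroup.mem_map_of_mem e.toMonoidHom hx
    rwa [Components.layer_map_equiv] at this
  · rintro ⟨l, hl, hall⟩
    obtain ⟨lh, -, rfl⟩ := id hl
    have hmem : ∀ {q : G} (hq : q ∈ R) (hqb : q * (b : G) = b * q), q ∈ E :=
      fun hq hqb => ⟨_, fix_mem_layer D hbp hπ hne hq hqb, rfl⟩
    have key : ∀ x ∈ E, ((lh : G)⁻¹ * t) * x * ((lh : G)⁻¹ * t)⁻¹ = x := by
      intro x hx
      calc ((lh : G)⁻¹ * t) * x * ((lh : G)⁻¹ * t)⁻¹ = (lh : G)⁻¹ * ((t : G) * x * (t : G)⁻¹) * lh := by group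
        _ = x := by rw [show (t : G) * x * (t : G)⁻¹ = (lh : G) * x * (lh : G)⁻¹ from hall x hx]; group
    have hz := key z (hmem D.good.x_mem (hzb b))
    refine not_inverts D hbp hπ ⟨(lh : G)⁻¹ * t, Subgroup.mem_centralizer_singleton_iff.2
      (mul_inv_eq_iff_eq_mul.1 hz)⟩ (Subtype.ext ?_) fun q hq hqb => key q (hmem hq hqb)
    show (lh : G)⁻¹ * t * b * ((lh : G)⁻¹ * t)⁻¹ = (b : G)⁻¹
    have hlb : Commute (lh : G) ((b : G)⁻¹) :=
      (show Commute (lh : G) (b : G) from OddQuot.mem_centralizer_zpowers.1 lh.2).inv_right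
    calc (lh : G)⁻¹ * t * b * ((lh : G)⁻¹ * t)⁻¹ = (lh : G)⁻¹ * ((t : G) * b * (t : G)⁻¹ * lh) := by group
      _ = (b : G)⁻¹ := by rw [htbG, ← hlb.eq, inv_mul_cancel_left]

end

end Cfsg.Agent.Lib.MonsterType.Held
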