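import Cfsg.Agent.Lib.MonsterType.MatCo
import Cfsg.Agent.Lib.MonsterType.Held.Data
import Cfsg.Agent.Lib.Golay.Perm

/-!
The element of `M24` of cycle shape `1^3 7^3`: its orbits, and the permutations that commute with it
or invert it.
-/

set_option autoImplicit false

namespace Cfsg.Agent.Lib.MonsterType.Held

open Cfsg
open Cfsg.Agent.Lib
open Cfsg.Agent.Lib.Leech

theorem inM24_complete {l : List ℕ} (hv : Golay.validList l = true) (h : Golay.toPerm l ∈ M24) :
    Golay.inM24 l = true := by
  simp only [Golay.inM24, hv, Bool.true_and, List.all_eq_true]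
  intro g hg
  have hlt : ∀ g ∈ Golay.genRows, g < 2 ^ 24 := by decide +kernel
  have hchk : ∀ g ∈ Golay.genRows, Golay.isCodeMask g = true := by decide +kernel
  have hs := Golay.M24_isCodeSet h (Golay.isCodeSet_of_isCodeMask (hchk g hg))
  rw [Golay.toPerm_smul_ptsOf hv] at hs
  refine (Golay.isCodeSet_ptsOf_iff ?_).1 hs
  refine Nat.lt_pow_two_of_testBit _ fun i hi => ?_
  by_contra hb
  rw [Bool.not_eq_false] at hb
  rw [Golay.imageMask, Golay.testBit_imageFold] at hb
  rcases hb with hb | ⟨j, -, -, hj⟩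
  · simp at hb
  · have := Golay.applyNum_lt l j
    omega

/-- The permutation of order 7. -/
noncomputable def sigma : Equiv.Perm GolayPt := Golay.toPerm Data.sigmaList

theorem sigma_ok : Golay.inM24 Data.sigmaList = true ∧ Golay.inM24 Data.sqList = true ∧
    (Data.swaps.all Golay.inM24) = true := by
  decide +kernel

theorem sigma_mem : sigma ∈ M24 := Golay.toPerm_mem_M24 sigma_ok.1

/-- The permutation, computably. -/
def sigmaF : GolayPt → GolayPt := Golay.listFun Data.sigmaList

theorem sigma_apply (p : GolayPt) : sigma p = sigmaF p :=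
  Golay.toPerm_apply (Golay.inM24.valid sigma_ok.1) p

theorem sigma_pow_apply (n : ℕ) (p : GolayPt) : (sigma ^ n) p = sigmaF^[n] p := by
  induction n with
  | zero => rfl
  | succ n ih => rw [pow_succ', Equiv.Perm.mul_apply, ih, sigma_apply, Function.iterate_succ_apply']

/-- The orbit of a point: `0, 1, 2` for the fixed points, `3, 4, 5` for the seven-cycles. -/
def orb (p : GolayPt) : Fin 6 := Fin.ofNat 6 (Data.orbPos.getD (Golay.idx p).val (0, 0)).1

/-- The position of a point in its orbit. -/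
def pos (p : GolayPt) : ℕ := (Data.orbPos.getD (Golay.idx p).val (0, 0)).2

/-- The first point of an orbit. -/
def base (k : Fin 6) : GolayPt := Golay.pt (Fin.ofNat 24 ((Data.orbits.getD k.val []).getD 0 0))

theorem orb_facts : (∀ p, sigmaF^[pos p] (base (orb p)) = p ∧ pos p < 7 ∧
      orb (sigmaF p) = orb p ∧ (sigmaF p = p ↔ orb p < 3)) ∧
    (∀ k, orb (base k) = k) ∧ (∀ p, sigmaF^[7] p = p) := by
  decide +kernel

theorem orb_iterate (n : ℕ) (p : GolayPt) : orb (sigmaF^[n] p) = orb p := by
  induction n with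
  | zero => rfl
  | succ n ih => rw [Function.iterate_succ_apply', (orb_facts.1 _).2.2.1, ih]

theorem sigma_pow_seven : sigma ^ 7 = 1 :=
  Equiv.ext fun p => by rw [sigma_pow_apply, orb_facts.2.2]; rfl

theorem sigma_ne_one : sigma ≠ 1 := fun h => by
  have : sigmaF (base 3) = base 3 := by rw [← sigma_apply, h]; rfl
  exact absurd this (by decide +kernel)

/-- A vector constant on the orbits. -/
def spread {α : Type*} (v : Fin 6 → α) : GolayPt → α := fun p => v (orb p)

theorem eq_spread {α : Type*} (x : GolayPt → α) (h : ∀ p, x (sigma p) = x p) :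
    x = spread fun k => x (base k) := by
  have hn : ∀ n p, x (sigmaF^[n] p) = x p := by
    intro n
    induction n with
    | zero => intro p; rfl
    | succ n ih => intro p; rw [Function.iterate_succ_apply', ← sigma_apply, h, ih]
  funext p
  conv_lhs => rw [← (orb_facts.1 p).1]
  exact hn _ _

theorem spread_sigma {α : Type*} (v : Fin 6 → α) (p : GolayPt) : spread v (sigma p) = spread v p := by
  rw [spread, spread, sigma_apply, (orb_facts.1 p).2.2.1]

/-- The fixed octad words. -/
def octWord (k : Fin 3) : GolayPt → ZMod 2 :=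
  spread fun m => if m.val % 3 = k.val then 1 else 0

theorem octWord_mem (k : Fin 3) : octWord k ∈ golayCode := codeChk_iff (by revert k; decide +kernel)

theorem octWord_dot : ∀ (v : Fin 6 → ZMod 2) (k : Fin 3),
    (∑ i, octWord k i * spread v i) = v ⟨k.val, by omega⟩ + v ⟨k.val + 3, by omega⟩ := by
  decide +kernel

/-- A code word constant on orbits takes the same value on a fixed point and on its cycle. -/
theorem word_pair {v : Fin 6 → ZMod 2} (h : spread v ∈ golayCode) (k : Fin 3) :
    v ⟨k.val, by omega⟩ = v ⟨k.val + 3, by omega⟩ := by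
  have := code_dot (octWord_mem k) h
  rw [octWord_dot] at this
  exact CharTwo.add_eq_zero.1 this

/-- The orbit map of a pair of maps of the fixed points. -/
def pair6 (f : Fin 3 → Fin 3) (k : Fin 6) : Fin 6 :=
  if h : k.val < 3 then ⟨(f ⟨k.val, h⟩).val, by omega⟩
  else ⟨(f ⟨k.val - 3, by omega⟩).val + 3, by omega⟩

theorem twist_iterate {τ : Equiv.Perm GolayPt} {e : ℕ} (hc : τ * sigma = sigma ^ e * τ) (n : ℕ)
    (p : GolayPt) : τ (sigmaF^[n] p) = sigmaF^[e * n] (τ p) := by
  induction n with
  | zero => rfl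
  | succ n ih =>
    rw [Function.iterate_succ_apply', ← sigma_apply, ← Equiv.Perm.mul_apply, hc, Equiv.Perm.mul_apply,
      ih, sigma_pow_apply, ← Function.iterate_add_apply]
    congr 1
    ring

/-- A code-preserving permutation commuting with the element or powering it permutes the orbits in pairs. -/
theorem orbit_map {τ : Equiv.Perm GolayPt} (hτ : τ ∈ M24) {e : ℕ} (he : ¬ 7 ∣ e)
    (hc : τ * sigma = sigma ^ e * τ) :
    ∃ f : Fin 3 → Fin 3, Function.Injective f ∧ ∀ p, orb (τ p) = pair6 f (orb p) := by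
  have hfix : ∀ p, sigmaF p = p → sigmaF (τ p) = τ p := by
    intro p hp
    have h1 := twist_iterate hc 1 p
    rw [Function.iterate_one, hp, mul_one] at h1
    obtain ⟨m, hm⟩ : ∃ m, e * m % 7 = 1 := by
      have : e % 7 ≠ 0 := fun h => he (Nat.dvd_of_mod_eq_zero h)
      rcases (by omega : e % 7 = 1 ∨ e % 7 = 2 ∨ e % 7 = 3 ∨ e % 7 = 4 ∨ e % 7 = 5 ∨ e % 7 = 6) with
        r | r | r | r | r | r
      exacts [⟨1, by omega⟩, ⟨4, by omega⟩, ⟨5, by omega⟩, ⟨2, by omega⟩, ⟨3, by omega⟩, ⟨6, by omega⟩]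
    have hm' : sigmaF^[e * m] (τ p) = τ p := by
      rw [Function.iterate_mul]
      exact Function.iterate_fixed h1.symm m
    have hmod : ∀ N q, sigmaF^[N] q = sigmaF^[N % 7] q := by
      intro N q
      conv_lhs => rw [← Nat.mod_add_div N 7, Function.iterate_add_apply, Function.iterate_mul]
      rw [Function.iterate_fixed (orb_facts.2.2 q)]
    rw [hmod, hm, Function.iterate_one] at hm'
    exact hm'
  have horb : ∀ p, orb (τ p) = orb (τ (base (orb p))) := by
    intro p
    conv_lhs => rw [← (orb_facts.1 p).1, twist_iterate hc, orb_iterate]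
  have hlt : ∀ k : Fin 6, k < 3 → orb (τ (base k)) < 3 := fun k hk =>
    (orb_facts.1 _).2.2.2.1 (hfix _ ((orb_facts.1 _).2.2.2.2 (by rwa [orb_facts.2.1])))
  let f : Fin 3 → Fin 3 := fun k =>
    ⟨(orb (τ (base ⟨k.val, by omega⟩))).val,
      Fin.lt_def.1 (hlt ⟨k.val, by omega⟩ (Fin.lt_def.2 k.2))⟩
  have hinj : Function.Injective f := by
    intro a b h
    have ha := (orb_facts.1 (τ (base ⟨a.val, by omega⟩))).1
    have hb := (orb_facts.1 (τ (base ⟨b.val, by omega⟩))).1
    have hfixp : ∀ k : Fin 6, k < 3 → ∀ n, sigmaF^[n] (base k) = base k := fun k hk n =>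
      Function.iterate_fixed ((orb_facts.1 _).2.2.2.2 (by rwa [orb_facts.2.1])) n
    rw [hfixp _ (hlt _ (Fin.lt_def.2 a.2))] at ha
    rw [hfixp _ (hlt _ (Fin.lt_def.2 b.2))] at hb
    have he' : orb (τ (base ⟨a.val, by omega⟩)) = orb (τ (base ⟨b.val, by omega⟩)) :=
      Fin.ext (show (f a).val = (f b).val from congrArg Fin.val h)
    rw [he', hb] at ha
    have := τ.injective ha
    have := congrArg orb this
    rw [orb_facts.2.1, orb_facts.2.1] at this
    exact Fin.ext (Fin.ext_iff.1 this).symm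
  refine ⟨f, hinj, fun p => ?_⟩
  rw [horb]
  generalize orb p = k
  by_cases hk : k.val < 3
  · rw [pair6, dif_pos hk]
  · rw [pair6, dif_neg hk]
    suffices h : ∀ k₀ : Fin 3, orb (τ (base ⟨k₀.val + 3, by omega⟩)) = ⟨(f k₀).val + 3, by omega⟩ by
      rw [← h ⟨k.val - 3, by omega⟩]
      exact congrArg (fun m => orb (τ (base m))) (Fin.ext (by simp only; omega))
    clear hk
    intro k₀
    -- the image of a fixed octad word is constant on orbits
    have hmem : (fun i => octWord k₀ (τ⁻¹ i)) ∈ golayCode :=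
      (mem_M24_iff.1 (inv_mem hτ) _).1 (octWord_mem k₀)
    have hcinv : τ⁻¹ * sigma ^ e = sigma * τ⁻¹ := by
      rw [eq_mul_inv_iff_mul_eq, mul_assoc, ← hc, inv_mul_cancel_left]
    have hpow : ∀ n q, octWord k₀ ((sigma ^ n) q) = octWord k₀ q := by
      intro n
      induction n with
      | zero => intro q; rfl
      | succ n ih => intro q; rw [pow_succ, Equiv.Perm.mul_apply, ih, octWord, spread_sigma]
    have hconst : ∀ q, octWord k₀ (τ⁻¹ (sigma q)) = octWord k₀ (τ⁻¹ q) := by
      have h1 : ∀ q, octWord k₀ (τ⁻¹ ((sigma ^ e) q)) = octWord k₀ (τ⁻¹ q) := fun q => by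
        rw [← Equiv.Perm.mul_apply, hcinv, Equiv.Perm.mul_apply, octWord, spread_sigma]
      have hn : ∀ n q, octWord k₀ (τ⁻¹ ((sigma ^ (e * n)) q)) = octWord k₀ (τ⁻¹ q) := by
        intro n
        induction n with
        | zero => intro q; rw [mul_zero]; rfl
        | succ n ih => intro q; rw [mul_add, mul_one, pow_add, Equiv.Perm.mul_apply, ih, h1]
      intro q
      obtain ⟨m, hm⟩ : ∃ m, e * m % 7 = 1 := by
        have : e % 7 ≠ 0 := fun h => he (Nat.dvd_of_mod_eq_zero h)
        rcases (by omega : e % 7 = 1 ∨ e % 7 = 2 ∨ e % 7 = 3 ∨ e % 7 = 4 ∨ e % 7 = 5 ∨ e % 7 = 6) with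
          r | r | r | r | r | r
        exacts [⟨1, by omega⟩, ⟨4, by omega⟩, ⟨5, by omega⟩, ⟨2, by omega⟩, ⟨3, by omega⟩, ⟨6, by omega⟩]
      have := hn m q
      rwa [← Nat.mod_add_div (e * m) 7, hm, pow_add, pow_one, pow_mul, sigma_pow_seven, one_pow,
        mul_one] at this
    rw [eq_spread (fun i => octWord k₀ (τ⁻¹ i)) hconst] at hmem
    have hp := word_pair hmem (f k₀)
    have hval : ∀ q, octWord k₀ q = if (orb q).val % 3 = k₀.val then 1 else 0 := fun q => rfl
    have hb1 : τ⁻¹ (base ⟨(f k₀).val, by omega⟩) = base ⟨k₀.val, by omega⟩ := by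
      rw [Equiv.Perm.inv_def, Equiv.symm_apply_eq]
      have h := (orb_facts.1 (τ (base ⟨k₀.val, by omega⟩))).1
      have hl := hlt ⟨k₀.val, by omega⟩ (Fin.lt_def.2 k₀.2)
      rw [Function.iterate_fixed ((orb_facts.1 _).2.2.2.2 (by rwa [orb_facts.2.1]))] at h
      exact h
    rw [hb1, hval, orb_facts.2.1, if_pos (Nat.mod_eq_of_lt k₀.2), hval] at hp
    have hm : (orb (τ⁻¹ (base ⟨(f k₀).val + 3, by omega⟩))).val % 3 = k₀.val := by
      by_contra hne
      rw [if_neg hne] at hp
      exact one_ne_zero hp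
    set q := τ⁻¹ (base ⟨(f k₀).val + 3, by omega⟩) with hq
    have hτq : τ q = base ⟨(f k₀).val + 3, by omega⟩ := Equiv.apply_symm_apply τ _
    have hq3 : ¬ (orb q).val < 3 := by
      intro hl
      have := hlt (orb q) (Fin.lt_def.2 hl)
      rw [← horb, hτq, orb_facts.2.1, Fin.lt_def] at this
      simp at this
    have hoq : orb q = ⟨k₀.val + 3, by omega⟩ := by
      have := (orb q).2
      exact Fin.ext (by simp only; omega)
    rw [← hoq, ← horb, hτq, orb_facts.2.1]

/-- The image list of the map acting on each cycle as `m ↦ e m + a`. -/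
def shiftList (e : ℕ) (a : Fin 3 → ℕ) : List ℕ :=
  (List.finRange 24).map fun i =>
    let p := Golay.pt i
    let c := Data.orbits.getD (orb p).val []
    if h : (orb p).val < 3 then i.val else c.getD ((e * pos p + a ⟨(orb p).val - 3, by omega⟩) % 7) 0

theorem shift_checks : ∀ (e : Bool) (b c : Fin 7),
    (Golay.validList (shiftList (bif e then 1 else 6) ![0, b.val, c.val]) = true ∧
      Golay.inM24 (shiftList (bif e then 1 else 6) ![0, b.val, c.val]) = true) →
      e = true ∧ b = 0 ∧ c = 0 := by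
  decide +kernel

theorem shift_valid : ∀ (e : Bool) (b c : Fin 7),
    Golay.validList (shiftList (bif e then 1 else 6) ![0, b.val, c.val]) = true ∧
    ∀ p, Golay.listFun (shiftList (bif e then 1 else 6) ![0, b.val, c.val]) p =
      sigmaF^[(bif e then 1 else 6) * pos p +
        (if h : (orb p).val < 3 then 0 else ![0, b.val, c.val] ⟨(orb p).val - 3, by omega⟩)]
        (base (orb p)) := by
  decide +kernel

theorem iterate_mod7 (N : ℕ) (q : GolayPt) : sigmaF^[N] q = sigmaF^[N % 7] q := by
  conv_lhs => rw [← Nat.mod_add_div N 7, Function.iterate_add_apply, Function.iterate_mul]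
  rw [Function.iterate_fixed (orb_facts.2.2 q)]

/-- A permutation keeping every orbit is a power of the element, and cannot invert it. -/
theorem eq_pow_of_keep {τ : Equiv.Perm GolayPt} (hτ : τ ∈ M24) (e : Bool)
    (hc : τ * sigma = sigma ^ (bif e then 1 else 6) * τ) (hk : ∀ p, orb (τ p) = orb p) :
    e = true ∧ ∃ n : ℕ, τ = sigma ^ n := by
  set a := pos (τ (base 3)) with ha
  set τ' := sigma ^ (7 - a) * τ with hτ'
  have ha7 : a < 7 := (orb_facts.1 _).2.1
  have hmem : τ' ∈ M24 := mul_mem (pow_mem sigma_mem _) hτ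
  have hc' : τ' * sigma = sigma ^ (bif e then 1 else 6) * τ' := by
    rw [hτ', mul_assoc, hc, ← mul_assoc, ← mul_assoc, ← pow_add, ← pow_add, add_comm]
  have hk' : ∀ p, orb (τ' p) = orb p := fun p => by
    rw [hτ', Equiv.Perm.mul_apply, sigma_pow_apply, orb_iterate, hk]
  have h3 : τ' (base 3) = base 3 := by
    rw [hτ', Equiv.Perm.mul_apply, sigma_pow_apply]
    have := (orb_facts.1 (τ (base 3))).1
    rw [hk, orb_facts.2.1] at this
    rw [← this, ← Function.iterate_add_apply, ← ha, iterate_mod7,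
      show (7 - a + a) % 7 = 0 by omega]
    rfl
  let b : Fin 7 := ⟨pos (τ' (base 4)), (orb_facts.1 _).2.1⟩
  let c : Fin 7 := ⟨pos (τ' (base 5)), (orb_facts.1 _).2.1⟩
  have himg : ∀ k : Fin 6, τ' (base k) =
      sigmaF^[if h : k.val < 3 then 0 else ![0, b.val, c.val] ⟨k.val - 3, by omega⟩] (base k) := by
    intro k
    have h := (orb_facts.1 (τ' (base k))).1
    rw [hk', orb_facts.2.1] at h
    fin_cases k
    all_goals first
      | (rw [Function.iterate_fixed ((orb_facts.1 _).2.2.2.2 (by rw [orb_facts.2.1]; decide))] at h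
         exact h.symm)
      | exact h3
      | exact h.symm
  obtain ⟨hv, hfun⟩ := shift_valid e b c
  have heq : τ' = Golay.toPerm (shiftList (bif e then 1 else 6) ![0, b.val, c.val]) := by
    refine Equiv.ext fun p => ?_
    rw [Golay.toPerm_apply hv, hfun]
    conv_lhs => rw [← (orb_facts.1 p).1, twist_iterate hc', himg]
    rw [← Function.iterate_add_apply]
  obtain ⟨he, hb, hc0⟩ := shift_checks e b c ⟨hv, inM24_complete hv (heq ▸ hmem)⟩
  refine ⟨he, a, ?_⟩
  have h1 : τ' = 1 := by
    refine Equiv.ext fun p => ?_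
    rw [heq, Golay.toPerm_apply hv, hfun, he, hb, hc0]
    have h0 : (if h : (orb p).val < 3 then 0 else ![0, (0 : Fin 7).val, (0 : Fin 7).val] ⟨(orb p).val - 3, by omega⟩) = 0 := by
      split
      · rfl
      · generalize (⟨(orb p).val - 3, _⟩ : Fin 3) = j
        fin_cases j <;> rfl
    rw [h0, cond_true, one_mul, add_zero]
    exact (orb_facts.1 p).1
  rw [hτ'] at h1
  rw [eq_inv_of_mul_eq_one_right h1, inv_eq_iff_mul_eq_one, ← pow_add,
    show 7 - a + a = 7 by omega, sigma_pow_seven]

end Cfsg.Agent.Lib.MonsterType.Held
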