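import Cfsg.Agent.Lib.MonsterType.Held.Joint

/-!
The centraliser of `b` modulo `⟨b⟩` is of Held type.
-/

set_option autoImplicit false

namespace Cfsg.Agent.Lib.MonsterType.Held

open Cfsg
open Cfsg.Agent.Lib
open Cfsg.Agent.Lib.Leech
open Cfsg.Agent.Lib.LargeExtra

/-- The classes of norm 64. -/
def classes64 : Finset (Fin 6 → ZMod 2) := Finset.univ.filter fun s => sqNorm (rep s) = 64

theorem card_classes64 : classes64.card = 14 := by
  decide +kernel

section

variable {G : Type*} [Group G] [Finite G] {z : G} {R : Subgroup G} (D : MData z R)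
  {b : ↥(Subgroup.centralizer ({z} : Set G))} (hbp : b ^ 7 = 1) (hπ : D.π b = QuotientGroup.mk k0)

include D hbp hπ

theorem mem64_iff {s : Fin 6 → ZMod 2} {q : G} (hs : D.lift (repL s) q) :
    q ∈ D.typeSet 64 ↔ s ∈ classes64 := by
  simp only [classes64, Finset.mem_filter, Finset.mem_univ, true_and]
  constructor
  · rintro ⟨v, hv, hvq⟩
    have hs0 : s ≠ 0 := fun e => by
      have hne := D.type_ne (n := 64) (by norm_num) le_rfl ⟨v, hv, hvq⟩
      rw [e, repL_zero] at hs
      exact ((D.lift_zero_iff q).1 hs).elim hne.1 hne.2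
    have hb' : sqNorm (rep s) ≤ 64 := by
      rcases rep_checks.2.2.2.2 s hs0 with h | h | h <;> rw [h] <;> norm_num
    have hb : sqNorm (repL s : GolayPt → ℤ) ≤ 64 := hb'
    have h0 : repL s ≠ 0 := fun e => hs0 (by rw [← sig_repL s, e, ← repL_zero, sig_repL])
    have := (D.cong_norm ((D.lift_cong hs v).1 hvq) hv.le hb h0).1
    rw [hv] at this
    exact this.symm
  · exact fun h => ⟨_, h, hs⟩

/-- The elements of type 64 commuting with `b`. -/
theorem ncard_fix64 : {q : G | q ∈ D.typeSet 64 ∧ q * (b : G) = b * q}.ncard = 28 := by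
  choose X hX using fun s => D.lift_left (repL s)
  let f : (Fin 6 → ZMod 2) × Bool → G := fun a => if a.2 then X a.1 * z else X a.1
  have hf : ∀ a, D.lift (repL a.1) (f a) := by
    rintro ⟨s, t⟩
    cases t
    · exact hX s
    · exact (D.lift_pair (hX s) _).2 (Or.inr rfl)
  have he : {q : G | q ∈ D.typeSet 64 ∧ q * (b : G) = b * q} =
      f '' ↑(classes64 ×ˢ (Finset.univ : Finset Bool)) := by
    ext q
    constructor
    · rintro ⟨hq, hqb⟩
      obtain ⟨s, hs⟩ := (commute_iff D hbp hπ (D.typeSet_subset _ hq)).1 hqb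
      have hmem := (mem64_iff D hbp hπ hs).1 hq
      rcases (D.lift_pair (hX s) _).1 hs with r | r
      · exact ⟨(s, false), by simpa using hmem, r.symm⟩
      · exact ⟨(s, true), by simpa using hmem, r.symm⟩
    · rintro ⟨a, ha, rfl⟩
      simp only [Finset.coe_product, Set.mem_prod, Finset.mem_coe] at ha
      exact ⟨(mem64_iff D hbp hπ (hf a)).2 ha.1,
        (commute_iff D hbp hπ (D.lift_mem (hf a))).2 ⟨_, hf a⟩⟩
  have hinj : Function.Injective f := by
    rintro ⟨s, t⟩ ⟨s', t'⟩ e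
    obtain rfl : s = s' := lift_repL_unique D (hf (s, t)) (e ▸ hf (s', t'))
    have hz := D.good.x_ne
    cases t <;> cases t' <;> simp [f] at e ⊢ <;> exact absurd e (by simpa using hz)
  rw [he, Set.ncard_image_of_injective _ hinj, Set.ncard_coe_finset, Finset.card_product,
    card_classes64]
  rfl

variable [hn : ((Subgroup.zpowers (b : G)).subgroupOf
  (Subgroup.centralizer (Subgroup.zpowers (b : G) : Set G))).Normal]

omit D hπ in
/-- The extraspecial subgroup of the quotient. -/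
def rbar (R : Subgroup G) :
    Subgroup (Subgroup.centralizer ({OddQuot.zbar (hzb b)} : Set _)) :=
  (R.subgroupOf (cz z (b : G))).map (OddQuot.phi (hzb b))

theorem phi_injOn {a c : cz z (b : G)} (ha : (a : G) ∈ R) (hc : (c : G) ∈ R)
    (h : OddQuot.phi (hzb b) a = OddQuot.phi (hzb b) c) : a = c := by
  obtain ⟨i, hi⟩ := (OddQuot.phi_eq_iff (hzb b) a c).1 h
  have hR : (b : G) ^ i ∈ R := by
    rw [show (b : G) ^ i = (a : G)⁻¹ * c by rw [hi, inv_mul_cancel_left]]
    exact mul_mem (inv_mem ha) hc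
  haveI : Fact (Nat.Prime 7) := ⟨by norm_num⟩
  have h1 := eq_one_of_pow_eq_one D (by norm_num : (7 : ℕ) ≠ 2) hR (by
    rw [← zpow_natCast, ← zpow_mul, mul_comm, zpow_mul, zpow_natCast, coe_pow_eq_one hbp, one_zpow])
  rw [h1, mul_one] at hi
  exact Subtype.ext hi.symm

theorem card_rbar : Nat.card (rbar (b := b) R) = 2 ^ 7 := by
  rw [← card_fix D hbp hπ]
  refine (Nat.card_eq_of_bijective (fun q : R.subgroupOf (cz z (b : G)) =>
    (⟨OddQuot.phi (hzb b) q, Subgroup.mem_map_of_mem _ q.2⟩ : rbar (b := b) R)) ⟨fun a c e => ?_, ?_⟩).symm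
  · exact Subtype.ext (phi_injOn D hbp hπ a.2 c.2 (congrArg Subtype.val e))
  · rintro ⟨_, q, hq, rfl⟩
    exact ⟨⟨q, hq⟩, rfl⟩

omit hn hπ hbp in
theorem z_mem_cz : z ∈ cz z (b : G) :=
  OddQuot.mem_cz_iff.2 ⟨rfl, hzb b⟩

theorem center_rbar (a : rbar (b := b) R) :
    a ∈ Subgroup.center (rbar (b := b) R) ↔
      (a : Subgroup.centralizer ({OddQuot.zbar (hzb b)} : Set _)) = 1 ∨
        (a : Subgroup.centralizer ({OddQuot.zbar (hzb b)} : Set _)) =
          OddQuot.phi (hzb b) ⟨z, z_mem_cz D⟩ := by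
  constructor
  · intro ha
    obtain ⟨q, hq, hqa⟩ := a.2
    have hcomm : ∀ p ∈ R, p * (b : G) = b * p → (q : G) * p = p * q := by
      intro p hp hpb
      have hpm : p ∈ cz z (b : G) := OddQuot.mem_cz_iff.2 ⟨D.good.le_cent p hp, hpb⟩
      have h := congrArg Subtype.val (Subgroup.mem_center_iff.1 ha
        ⟨_, Subgroup.mem_map_of_mem (OddQuot.phi (hzb b)) (show (⟨p, hpm⟩ : cz z (b : G)) ∈
          R.subgroupOf _ from hp)⟩)
      simp only [Subgroup.coe_mul] at h
      rw [← hqa, ← map_mul, ← map_mul] at h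
      exact (congrArg Subtype.val (phi_injOn D hbp hπ (mul_mem hp hq) (mul_mem hq hp) h)).symm
    rcases centre_fix D hbp hπ hq (OddQuot.mem_cz_iff.1 q.2).2 hcomm with r | r
    · left
      rw [← hqa, show q = 1 from Subtype.ext r, map_one]
    · right
      rw [← hqa]
      exact congrArg _ (Subtype.ext r)
  · intro h
    rcases h with r | r
    · rw [show a = 1 from Subtype.ext r]; exact one_mem _
    · refine Subgroup.mem_center_iff.2 fun c => Subtype.ext ?_
      obtain ⟨p, hp, hpc⟩ := c.2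
      simp only [Subgroup.coe_mul]
      rw [r, ← hpc, ← map_mul, ← map_mul]
      exact congrArg _ (Subtype.ext (D.good.le_cent p hp))

theorem rbar_extraspecial : IsExtraspecial 2 (rbar (b := b) R) := by
  set zr : rbar (b := b) R :=
    ⟨OddQuot.phi (hzb b) ⟨z, z_mem_cz D⟩, Subgroup.mem_map_of_mem _ D.good.x_mem⟩
  have hzc : zr ∈ Subgroup.center (rbar (b := b) R) := (center_rbar D hbp hπ _).2 (Or.inr rfl)
  have hz1 : zr ≠ 1 := fun e => D.good.x_ne (congrArg Subtype.val
    (phi_injOn D hbp hπ (a := ⟨z, z_mem_cz D⟩) (c := 1) D.good.x_mem (one_mem R)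
      ((congrArg Subtype.val e).trans (map_one _).symm)))
  have hall : ∀ x ∈ Subgroup.center (rbar (b := b) R), x = 1 ∨ x = zr :=
    fun x hx => ((center_rbar D hbp hπ x).1 hx).imp (fun e => Subtype.ext e) (fun e => Subtype.ext e)
  have hne : ∃ x y : rbar (b := b) R, x * y ≠ y * x := by
    by_contra hno
    push Not at hno
    have : Subgroup.center (rbar (b := b) R) = ⊤ :=
      eq_top_iff.2 fun x _ => Subgroup.mem_center_iff.2 fun y => hno y x
    have h2 : Nat.card (rbar (b := b) R) ≤ 2 := by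
      rw [← Subgroup.card_top, ← this]
      refine (Nat.card_mono (Set.toFinite _) (s := (Subgroup.center (rbar (b := b) R) : Set (rbar (b := b) R)))
        (t := {1, zr}) fun x hx => hall x hx).trans ?_
      rw [Nat.card_coe_set_eq]
      exact (Set.ncard_insert_le _ _).trans (by rw [Set.ncard_singleton])
    rw [card_rbar D hbp hπ] at h2
    norm_num at h2
  obtain ⟨x, y, hxy⟩ := hne
  refine LargeES.Heisenberg.isExtraspecial_of_props (IsPGroup.of_card (card_rbar D hbp hπ)) hz1 hzc hall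
    (fun a => ?_) (fun a c => ?_) hxy
  · obtain ⟨q, hq, hqa⟩ := a.2
    rw [center_rbar D hbp hπ, SubgroupClass.coe_pow, ← hqa, ← map_pow, pow_two]
    rcases D.good.sq_cases hq with r | r
    · left; rw [show q * q = 1 from Subtype.ext r, map_one]
    · right; exact congrArg _ (Subtype.ext r)
  · obtain ⟨p, hp', hpa⟩ := a.2
    obtain ⟨q, hq, hqb⟩ := c.2
    rw [center_rbar D hbp hπ]
    simp only [Subgroup.coe_mul, Subgroup.coe_inv]
    rw [← hpa, ← hqb, ← map_inv, ← map_inv, ← map_mul, ← map_mul, ← map_mul]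
    rcases D.comm_cases hp' hq with r | r
    · left; rw [show p * q * p⁻¹ * q⁻¹ = 1 from Subtype.ext r, map_one]
    · right; exact congrArg _ (Subtype.ext r)

/-- The centraliser of `b` modulo `⟨b⟩` is of Held type. -/
theorem isHeld (hne : ∃ g : G, g * z * g⁻¹ ∈ R ∧ g * z * g⁻¹ ≠ z) :
    IsOfHeldType (Subgroup.centralizer (Subgroup.zpowers (b : G) : Set G) ⧸
      (Subgroup.zpowers (b : G)).subgroupOf (Subgroup.centralizer (Subgroup.zpowers (b : G) : Set G))) := by
  haveI : Fact (Nat.Prime 7) := ⟨by norm_num⟩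
  haveI : Fact (Nat.Prime 2) := ⟨Nat.prime_two⟩
  haveI := isSimpleGroup_SL32
  have hp2 : (7 : ℕ) ≠ 2 := by norm_num
  have hb7 := coe_pow_eq_one hbp
  have hzz : z * z = 1 := D.good.x_sq
  have hφ := OddQuot.phi_surjective hp2 hb7 (hzb b) hzz
  have hker : (OddQuot.phi (hzb b)).ker ≤ (toL D hbp hπ).ker := by
    intro c hc
    rw [MonoidHom.mem_ker, toL_eq_one_iff]
    obtain ⟨i, hi⟩ := Subgroup.mem_zpowers_iff.1 ((OddQuot.phi_one_iff (hzb b) c).1 hc)
    exact ⟨i, by rw [← hi, mul_inv_cancel]; exact one_mem R⟩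
  let θ := (OddQuot.phi (hzb b)).liftOfSurjective hφ ⟨toL D hbp hπ, hker⟩
  have hθ : ∀ c, θ (OddQuot.phi (hzb b) c) = toL D hbp hπ c :=
    fun c => MonoidHom.liftOfRightInverse_comp_apply _ _ _ _ c
  have hθs : Function.Surjective θ := fun g => by
    obtain ⟨c, rfl⟩ := toL_surjective D hbp hπ g
    exact ⟨_, hθ c⟩
  have hkθ : θ.ker = rbar (b := b) R := by
    ext q
    obtain ⟨c, rfl⟩ := hφ q
    rw [MonoidHom.mem_ker, hθ, toL_eq_one_iff]
    constructor
    · rintro ⟨i, hi⟩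
      have hm : (c : G) * ((b : G) ^ i)⁻¹ ∈ cz z (b : G) :=
        mul_mem c.2 (inv_mem (zpow_mem (OddQuot.b_mem_cz (hzb b)) i))
      exact ⟨⟨_, hm⟩, hi, (OddQuot.phi_eq_iff (hzb b) _ _).2 ⟨i, by simp⟩⟩
    · rintro ⟨d, hd, hdc⟩
      obtain ⟨i, hi⟩ := (OddQuot.phi_eq_iff (hzb b) d c).1 hdc
      exact ⟨i, by rw [hi, mul_inv_cancel_right]; exact hd⟩
  have hN : (rbar (b := b) R).Normal := hkθ ▸ MonoidHom.normal_ker θ
  have hcore : pCore 2 (Subgroup.centralizer ({OddQuot.zbar (hzb b)} : Set _)) = rbar (b := b) R := by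
    refine le_antisymm ?_ (PSolvable.le_pCore (IsPGroup.of_card (card_rbar D hbp hπ)))
    haveI := PSolvable.pCore_characteristic (p := 2)
      (G := Subgroup.centralizer ({OddQuot.zbar (hzb b)} : Set _))
    rw [← hkθ, ← Subgroup.map_eq_bot_iff]
    rcases ((inferInstance :
      (pCore 2 (Subgroup.centralizer ({OddQuot.zbar (hzb b)} : Set _))).Normal).map θ
        hθs).eq_bot_or_eq_top with h | h
    · exact h
    · exfalso
      obtain ⟨k, hk⟩ := IsPGroup.iff_card.1
        ((PSolvable.pCore_isPGroup (p := 2)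
          (G := Subgroup.centralizer ({OddQuot.zbar (hzb b)} : Set _))).map θ)
      rw [h, Subgroup.card_top] at hk
      have h168 := LinGroup.card_SL_mul (F := ZMod 2) 3 (by norm_num)
      rw [hk, ZMod.card, Fin.prod_univ_three] at h168
      norm_num at h168
      have h7 : 7 ∣ 2 ^ k := ⟨24, by omega⟩
      exact absurd ((Nat.prime_dvd_prime_iff_eq (by norm_num) Nat.prime_two).1
        ((by norm_num : Nat.Prime 7).dvd_of_dvd_pow h7)) (by norm_num)
  have hchar : IsOfCharacteristicTwo (Subgroup.centralizer ({OddQuot.zbar (hzb b)} : Set _)) := by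
    show Subgroup.centralizer (pCore 2 (Subgroup.centralizer ({OddQuot.zbar (hzb b)} : Set _)) :
        Set (Subgroup.centralizer ({OddQuot.zbar (hzb b)} : Set _))) ≤
      pCore 2 (Subgroup.centralizer ({OddQuot.zbar (hzb b)} : Set _))
    rw [hcore]
    intro q hq
    obtain ⟨c, rfl⟩ := hφ q
    rw [← hkθ, MonoidHom.mem_ker, hθ]
    refine toL_of_centralizing D hbp hπ fun p hp hpb => ?_
    have hpm : p ∈ cz z (b : G) := OddQuot.mem_cz_iff.2 ⟨D.good.le_cent p hp, hpb⟩
    have h := (Subgroup.mem_centralizer_iff.1 hq) _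
      (Subgroup.mem_map_of_mem (OddQuot.phi (hzb b)) (show (⟨p, hpm⟩ : cz z (b : G)) ∈
        R.subgroupOf _ from hp))
    rw [← map_mul, ← map_mul] at h
    obtain ⟨i, hi⟩ := (OddQuot.phi_eq_iff (hzb b) _ _).1 h
    simp only [Subgroup.coe_mul] at hi
    have hcR : (c : G) * p * (c : G)⁻¹ ∈ R := D.good.norm _ (OddQuot.mem_cz_iff.1 c.2).1 p hp
    have hbi : (b : G) ^ i = 1 := by
      refine eq_one_of_pow_eq_one D hp2 ?_ (by
        rw [← zpow_natCast, ← zpow_mul, mul_comm, zpow_mul, zpow_natCast, hb7, one_zpow])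
      have hcb : Commute (c : G) ((b : G) ^ i) :=
        Commute.zpow_right ((OddQuot.mem_cz_iff.1 c.2).2 : Commute (c : G) b) i
      have e : (b : G) ^ i = p⁻¹ * ((c : G) * p * (c : G)⁻¹) := by
        rw [hi, mul_assoc p (c : G), hcb.eq]
        group
      rw [e]
      exact mul_mem (inv_mem hp) hcR
    rw [hbi, mul_one] at hi
    exact hi
  have hF : generalizedFittingSubgroup (Subgroup.centralizer ({OddQuot.zbar (hzb b)} : Set _)) =
      rbar (b := b) R :=
    (CharTwo.generalizedFitting_eq_of_charTwo hchar).trans hcore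
  let e := (QuotientGroup.quotientMulEquivOfEq hkθ.symm).trans
    (QuotientGroup.quotientKerEquivOfSurjective θ hθs)
  have hconj : ∀ a : cz z (b : G), (a : G) ∈ R →
      (IsConj (OddQuot.zbar (hzb b)) (OddQuot.phi (hzb b) a : _ ⧸ _) ↔
        ((a : G) = z ∨ (a : G) ∈ D.typeSet 64)) := by
    intro a ha
    have hab := (OddQuot.mem_cz_iff.1 a.2).2
    rw [OddQuot.isConj_phi_iff hp2 hb7 (hzb b) D.good.x_ne hzz (D.good.sq_cases ha)]
    constructor
    · rintro ⟨h, -, e⟩
      by_cases haz : (a : G) = z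
      · exact Or.inl haz
      · exact Or.inr ((isConj_iff_type64 D hne ha).1 ⟨_root_.isConj_iff.2 ⟨h, e⟩, haz⟩)
    · rintro (r | r)
      · exact ⟨1, by simp, by simp [r]⟩
      · exact exists_conj_fix D hbp hπ hne r hab
  have hzT : z ∉ {q : G | q ∈ D.typeSet 64 ∧ q * (b : G) = b * q} := fun h =>
    (D.type_ne (by norm_num) le_rfl h.1).2 rfl
  refine ⟨OddQuot.zbar (hzb b), rbar (b := b) R, hN,
    ⟨?_, hF, rbar_extraspecial D hbp hπ, card_rbar D hbp hπ, ?_⟩, ⟨e⟩, ?_⟩
  · refine orderOf_eq_prime ?_ (OddQuot.zbar_ne_one hp2 hb7 (hzb b) D.good.x_ne hzz)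
    rw [pow_two]
    exact congrArg QuotientGroup.mk (Subtype.ext hzz : OddQuot.zH (hzb b) * OddQuot.zH (hzb b) = 1)
  · obtain ⟨q, hq64, hqb⟩ : {q : G | q ∈ D.typeSet 64 ∧ q * (b : G) = b * q}.Nonempty :=
      Set.nonempty_of_ncard_ne_zero (by rw [ncard_fix64 D hbp hπ]; norm_num)
    have hqR := D.typeSet_subset _ hq64
    let a : cz z (b : G) := ⟨q, OddQuot.mem_cz_iff.2 ⟨D.good.le_cent q hqR, hqb⟩⟩
    obtain ⟨g, hg⟩ := _root_.isConj_iff.1 ((hconj a hqR).2 (Or.inr hq64))
    refine ⟨g, ⟨by rw [hg]; exact (OddQuot.phi (hzb b) a).2, ?_⟩, ?_⟩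
    · simp only [hg]
      exact Subgroup.mem_map_of_mem _ hqR
    · rw [hg]
      intro e
      exact (D.type_ne (by norm_num) le_rfl hq64).2 (congrArg Subtype.val
        (phi_injOn D hbp hπ (a := a) (c := ⟨z, z_mem_cz D⟩) hqR D.good.x_mem (Subtype.ext e)))
  · let S : Set (cz z (b : G)) := {a | (a : G) ∈ R ∧ ((a : G) = z ∨ (a : G) ∈ D.typeSet 64)}
    have hset : {x : Subgroup.centralizer ({OddQuot.zbar (hzb b)} : Set _) | x ∈ rbar (b := b) R ∧
        IsConj (OddQuot.zbar (hzb b)) (x : _ ⧸ _)} = OddQuot.phi (hzb b) '' S := by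
      ext x
      constructor
      · rintro ⟨⟨a, ha, rfl⟩, hc⟩
        exact ⟨a, ⟨ha, (hconj a ha).1 hc⟩, rfl⟩
      · rintro ⟨a, ⟨ha, hc⟩, rfl⟩
        exact ⟨Subgroup.mem_map_of_mem _ ha, (hconj a ha).2 hc⟩
    have hS : Subtype.val '' S = insert z {q : G | q ∈ D.typeSet 64 ∧ q * (b : G) = b * q} := by
      ext x
      constructor
      · rintro ⟨a, ⟨ha, hc⟩, rfl⟩
        exact hc.imp id fun h => ⟨h, (OddQuot.mem_cz_iff.1 a.2).2⟩
      · intro hx
        rcases hx with r | ⟨h64, hxb⟩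
        · subst r; exact ⟨⟨_, z_mem_cz D⟩, ⟨D.good.x_mem, Or.inl rfl⟩, rfl⟩
        · have hxR := D.typeSet_subset _ h64
          exact ⟨⟨x, OddQuot.mem_cz_iff.2 ⟨D.good.le_cent x hxR, hxb⟩⟩, ⟨hxR, Or.inr h64⟩, rfl⟩
    rw [hset, Set.ncard_image_of_injOn fun a ha c hc e => phi_injOn D hbp hπ ha.1 hc.1 e,
      ← Set.ncard_image_of_injective S Subtype.val_injective, hS,
      Set.ncard_insert_of_notMem hzT (Set.toFinite _), ncard_fix64 D hbp hπ]

end

end Cfsg.Agent.Lib.MonsterType.Held
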